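import Groth.Agent.LiaisonLib.Duality
import Groth.Agent.GorLib.Heights

/-!
# Complete intersections and almost complete intersections
-/

set_option autoImplicit false
set_option backward.isDefEq.respectTransparency false
universe u

open TensorProduct IsLocalRing RingTheory.Sequence

noncomputable section

namespace Groth.Agent.LiaisonLib

theorem gorenstein_quot_of_height {L : Type u} [CommRing L] [IsRegularLocalRing L] (rs : List L)
    (hm : ∀ r ∈ rs, r ∈ maximalIdeal L)
    (hh : ∀ Q : PrimeSpectrum L, Ideal.ofList rs ≤ Q.asIdeal → (rs.length : ℕ∞) ≤ Q.asIdeal.height) :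
    LocCoh.IsGorensteinLocalRing (L ⧸ Ideal.ofList rs) := by
  classical
  have hG := GorLib.gorensteinLocal_of_regular L
  haveI : LocCoh.IsCohenMacaulayLocalRing L := GorLib.isCohenMacaulay L hG
  let J := Ideal.ofList rs
  have hJm : J ≤ maximalIdeal L := Ideal.span_le.2 hm
  refine GorLib.gorenstein_quot_seq rs.length L hG rs rfl hm (DeformLib.isWeaklyRegular_of_ringKrullDim rs hm (le_antisymm ?_ ?_))
  · haveI : Nontrivial (L ⧸ J) := Ideal.Quotient.nontrivial_iff.2 fun h =>
      (maximalIdeal.isMaximal L).ne_top (top_le_iff.1 (h ▸ hJm))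
    haveI : IsLocalRing (L ⧸ J) := .of_surjective' (Ideal.Quotient.mk J) Ideal.Quotient.mk_surjective
    obtain ⟨e, he⟩ := RegLocal.exists_nat_ringKrullDim (L ⧸ J)
    obtain ⟨l, hl⟩ : ∃ l : LTSeries (PrimeSpectrum (L ⧸ J)), l.length = e :=
      Order.le_krullDim_iff.mp (by rw [← ringKrullDim, he])
    let l' := l.map (PrimeSpectrum.comap (Ideal.Quotient.mk J))
      (RingHom.strictMono_comap_of_surjective Ideal.Quotient.mk_surjective)
    have hhead : J ≤ l'.head.asIdeal := by
      intro a ha
      rw [LTSeries.head_map, PrimeSpectrum.comap_asIdeal, Ideal.mem_comap, Ideal.Quotient.eq_zero_iff_mem.2 ha]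
      exact zero_mem _
    have hco : (e : ℕ∞) ≤ Order.coheight l'.head := by
      rw [← hl]
      exact Order.length_le_coheight (p := l') le_rfl
    have h1 := (CMCat.height_add_and_cm l'.head.asIdeal (hp := l'.head.isPrime)).2
    rw [CatLib.ringKrullDim_quotient_eq_coheight l'.head] at h1
    rw [he, ← h1, show ((e : ℕ) : WithBot ℕ∞) = (((e : ℕ∞)) : WithBot ℕ∞) from rfl,
      show ((rs.length : ℕ) : WithBot ℕ∞) = (((rs.length : ℕ∞)) : WithBot ℕ∞) from rfl, ← WithBot.coe_add,
      ← WithBot.coe_add, WithBot.coe_le_coe, add_comm]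
    exact add_le_add (hh _ hhead) hco
  · refine (ringKrullDim_le_ringKrullDim_quotient_add_card (R := L) (s := rs.toFinset) fun r hr => ?_).trans ?_
    · rw [IsLocalRing.ringJacobson_eq_maximalIdeal]
      exact hm r (List.mem_toFinset.1 hr)
    · rw [show Ideal.span ((rs.toFinset : Finset L) : Set L) = J by
        simp only [J, Ideal.ofList, List.coe_toFinset]]
      exact add_le_add le_rfl (by exact_mod_cast List.toFinset_card_le rs)

/-- An ideal of height `c` generated by `c` elements in a regular ring has a Gorenstein quotient. -/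
theorem gorensteinRing_of_ci {R : Type u} [CommRing R] [IsRegularRing R] {c : ℕ} (g : Fin c → R) (I : Ideal R)
    (hI : Ideal.span (Set.range g) = I) (hh : I.height = c) : LocCoh.IsGorensteinRing (R ⧸ I) := by
  refine { isGorensteinLocalRing_localization := fun P _ => ?_ }
  let p := P.comap (Ideal.Quotient.mk I)
  haveI : P.LiesOver p := ⟨rfl⟩
  have hIp : I ≤ p := fun a ha => by
    show Ideal.Quotient.mk I a ∈ P
    rw [Ideal.Quotient.eq_zero_iff_mem.2 ha]
    exact P.zero_mem
  let L := Localization.AtPrime p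
  haveI : IsRegularLocalRing L := IsRegularRing.isRegularLocalRing_localization p
  let rs := List.ofFn fun i => algebraMap R L (g i)
  have hmap : Ideal.ofList rs = I.map (algebraMap R L) := by
    refine Eq.trans ?_ (congrArg (Ideal.map (algebraMap R L)) hI)
    rw [Ideal.map_span, Ideal.ofList]
    congr 1
    ext x
    simp [rs, List.mem_ofFn]
  have hG := gorenstein_quot_of_height rs (fun r hr => by
    obtain ⟨i, rfl⟩ := List.mem_ofFn.1 hr
    exact (IsLocalization.AtPrime.to_map_mem_maximal_iff L p _).2 (hIp (hI ▸ Ideal.subset_span ⟨i, rfl⟩))) fun Q hQ => by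
    rw [List.length_ofFn, ← hh, ← IsLocalization.height_comap p.primeCompl Q.asIdeal]
    exact Ideal.height_mono (Ideal.map_le_iff_le_comap.1 (hmap ▸ hQ))
  have hsub : Algebra.algebraMapSubmonoid (R ⧸ I) p.primeCompl = P.primeCompl :=
    Ideal.algebraMapSubmonoid_primeCompl_of_liesOver_surjective P p Ideal.Quotient.mk_surjective
  haveI : IsLocalization (Algebra.algebraMapSubmonoid (R ⧸ I) p.primeCompl)
      (Localization.AtPrime P) := by rw [hsub]; infer_instance
  exact GorLib.gorenstein_of_ringEquiv ((Ideal.quotEquivOfEq hmap).trans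
    (IsLocalization.algEquiv (Algebra.algebraMapSubmonoid (R ⧸ I) p.primeCompl)
      _ (Localization.AtPrime P)).toRingEquiv) hG

/-- A projective finite algebra whose dual is covered by an invertible dualizing module is Gorenstein. -/
theorem gorensteinRing_of_split {P A C : Type u} [CommRing P] [IsRegularRing P] [CommRing A] [Algebra P A]
    [CommRing C] [Algebra P C] [Module.Finite P C] [Module.Projective P C]
    [Module.Invertible A (Disc.Omega P A)] (π : A →+* C) (ι : C →ₗ[P] A) (hι : ∀ a x, ι (π a * x) = a * ι x)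
    (r : A →ₗ[P] C) (hr : ∀ x, r (ι x) = x) : LocCoh.IsGorensteinRing C := by
  haveI : IsNoetherianRing C := IsNoetherianRing.of_finite P C
  haveI : LocCoh.IsGorensteinRing P := GorLib.gorensteinRing_of_regular P
  refine GorLib.gorensteinRing_of_flat_fibres (R := P)
    (fun Q _ => LocCoh.IsGorensteinRing.isGorensteinLocalRing_localization _) fun p _ => ?_
  let F := p.Fiber C
  haveI : IsArtinianRing F := IsArtinianRing.of_finite p.ResidueField F
  let incl : C →+* F := (Algebra.TensorProduct.includeRight : C →ₐ[P] F).toRingHom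
  letI : Algebra A F := (incl.comp π).toAlgebra
  letI : Module A (Disc.Omega p.ResidueField F) := Module.compHom _ (algebraMap A F)
  haveI : IsScalarTower A F (Disc.Omega p.ResidueField F) :=
    ⟨fun a x φ => by rw [Algebra.smul_def, mul_smul]; rfl⟩
  let red : Disc.Omega P A → Disc.Omega p.ResidueField F := fun φ =>
    ⟨(AlgebraTensorModule.rid P p.ResidueField p.ResidueField).toLinearMap ∘ₗ
      (φ.toLinearMap ∘ₗ ι).baseChange p.ResidueField⟩
  have hred : ∀ φ (k : p.ResidueField) (x : C), (red φ).toLinearMap (k ⊗ₜ[P] x) = φ.toLinearMap (ι x) • k := fun φ k x => by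
    show AlgebraTensorModule.rid P p.ResidueField p.ResidueField
      ((φ.toLinearMap ∘ₗ ι).baseChange p.ResidueField (k ⊗ₜ[P] x)) = _
    rw [LinearMap.baseChange_tmul, AlgebraTensorModule.rid_tmul]
    rfl
  let Θ : Disc.Omega P A →ₗ[A] Disc.Omega p.ResidueField F :=
    { toFun := red
      map_add' := fun φ ψ => Disc.Omega.ext (TensorProduct.AlgebraTensorModule.ext fun k x => by
        rw [hred]
        show _ = (red φ).toLinearMap (k ⊗ₜ[P] x) + (red ψ).toLinearMap (k ⊗ₜ[P] x)
        rw [hred, hred, ← add_smul]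
        rfl)
      map_smul' := fun a φ => Disc.Omega.ext (TensorProduct.AlgebraTensorModule.ext fun k x => by
        rw [hred]
        show _ = ((algebraMap A F a) • red φ).toLinearMap (k ⊗ₜ[P] x)
        rw [Disc.Omega.smul_toLinearMap_apply, Disc.Omega.smul_toLinearMap_apply,
          show algebraMap A F a = (1 : p.ResidueField) ⊗ₜ[P] π a from rfl, Algebra.TensorProduct.tmul_mul_tmul,
          one_mul, hred, hι]) }
  have hbc := TensorProduct.isBaseChange A (Disc.Omega P A) F
  let Φ : F ⊗[A] Disc.Omega P A →ₗ[F] Disc.Omega p.ResidueField F := hbc.lift Θ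
  obtain ⟨e⟩ := Module.Invertible.free_iff_linearEquiv.1
    (inferInstance : Module.Free F (F ⊗[A] Disc.Omega P A))
  let t := Φ (e.symm 1)
  have hcyc : ∀ φ, ∃ a : F, red φ = a • t := fun φ => ⟨e ((1 : F) ⊗ₜ[A] φ), by
    show _ = _ • Φ (e.symm 1)
    rw [← map_smul, ← map_smul, smul_eq_mul, mul_one, LinearEquiv.symm_apply_apply]
    exact (hbc.lift_eq Θ φ).symm⟩
  obtain ⟨m, ε, eb, he⟩ := exists_dualBasis (P := P) (A := C)
  refine GorInvLib.gorensteinRing_of_nondegenerate p.ResidueField F t.toLinearMap fun x hx => ?_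
  let φs : Fin m → Disc.Omega P A := fun i => ⟨ε i ∘ₗ r⟩
  have hzero : ∀ i, (red (φs i)).toLinearMap x = 0 := fun i => by
    obtain ⟨a, ha⟩ := hcyc (φs i)
    rw [ha, Disc.Omega.smul_toLinearMap_apply, mul_comm]
    exact hx a
  have hsum : ∀ z : F, z = ∑ i, (red (φs i)).toLinearMap z • ((1 : p.ResidueField) ⊗ₜ[P] eb i) := fun z => by
    induction z using TensorProduct.induction_on with
    | zero => simp
    | add a b ha hb =>
      simp only [map_add, add_smul, Finset.sum_add_distrib]
      rw [← ha, ← hb]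
    | tmul k c =>
      conv_lhs => rw [he c, tmul_sum]
      refine Finset.sum_congr rfl fun i _ => ?_
      rw [hred, show (φs i).toLinearMap (ι c) = ε i c by show ε i (r (ι c)) = _; rw [hr], smul_tmul',
        smul_eq_mul, mul_one, tmul_smul, smul_tmul']
  rw [hsum x]
  exact Finset.sum_eq_zero fun i _ => by rw [hzero i, zero_smul]

/-- The annihilator of a principal ideal with Cohen–Macaulay quotient cuts out a Gorenstein ring. -/
theorem gorenstein_quot_ann_principal {k : Type u} [Field k] {A : Type u} [CommRing A] [Algebra k A]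
    [Algebra.FiniteType k A] [LocCoh.IsGorensteinRing A] (h : ℕ∞) (hA : ∀ M : Ideal A, M.IsMaximal → M.height = h)
    (f : A) (j : Ideal A) (hj : ∀ a, a ∈ j ↔ a * f = 0) [LocCoh.IsCohenMacaulayRing (A ⧸ Ideal.span {f})]
    (hi : ∀ M : Ideal (A ⧸ Ideal.span {f}), M.IsMaximal → M.height = h) : LocCoh.IsGorensteinRing (A ⧸ j) := by
  haveI : IsNoetherianRing A := Algebra.FiniteType.isNoetherianRing k A
  rcases subsingleton_or_nontrivial A with hs | hn
  · haveI : Subsingleton (A ⧸ j) := Ideal.Quotient.mk_surjective.subsingleton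
    exact { isGorensteinLocalRing_localization := fun p hp => absurd (Subsingleton.elim p ⊤) hp.ne_top }
  haveI : LocCoh.IsCohenMacaulayRing A := cm_of_gorenstein
  obtain ⟨s, g, hinj, hfin⟩ := exists_finite_inj_algHom_of_fg k A
  letI : Algebra (MvPolynomial (Fin s) k) A := g.toRingHom.toAlgebra
  haveI : Module.Finite (MvPolynomial (Fin s) k) A := hfin
  obtain ⟨q, hqmax, hqh⟩ := exists_maximal_height (A := A) hinj
  have hhs : h = s := (hA q hqmax).symm.trans hqh
  haveI : Module.Projective (MvPolynomial (Fin s) k) A := projective_of_heights A fun M hM => (hA M hM).trans hhs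
  let P := MvPolynomial (Fin s) k
  haveI : Module.Projective P (A ⧸ Ideal.span {f}) :=
    projective_of_heights _ fun M hM => (hi M hM).trans hhs
  haveI : Module.Invertible A (Disc.Omega P A) := invertible_omega
  haveI : Module.Projective P (A ⧸ j) := projective_quot_ann (P := P) (Ideal.span {f}) j fun a => by
    rw [hj]
    refine ⟨fun ha x hx => ?_, fun ha => ha f (Ideal.mem_span_singleton_self f)⟩
    obtain ⟨b, rfl⟩ := Ideal.mem_span_singleton'.1 hx
    rw [mul_left_comm, ha, mul_zero]
  obtain ⟨σ, hσ⟩ := Module.projective_lifting_property (Ideal.Quotient.mkₐ P (Ideal.span {f})).toLinearMap LinearMap.id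
    Ideal.Quotient.mk_surjective
  let ι : (A ⧸ j) →ₗ[P] A := (j.restrictScalars P).liftQ (LinearMap.mulRight P f) fun a ha => (hj a).1 ha
  have hιi : Function.Injective ι := by
    rw [← LinearMap.ker_eq_bot, Submodule.eq_bot_iff]
    intro z hz
    obtain ⟨a, rfl⟩ := Ideal.Quotient.mk_surjective z
    exact Ideal.Quotient.eq_zero_iff_mem.2 ((hj a).2 hz)
  let ret : A →ₗ[P] LinearMap.range ι :=
    (LinearMap.id - σ ∘ₗ (Ideal.Quotient.mkₐ P (Ideal.span {f})).toLinearMap).codRestrict _ fun x => by
      obtain ⟨a, ha⟩ := Ideal.mem_span_singleton'.1 (show x - σ (Ideal.Quotient.mk _ x) ∈ Ideal.span {f} by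
        rw [← Ideal.Quotient.eq_zero_iff_mem, map_sub]
        exact sub_eq_zero.2 (LinearMap.congr_fun hσ (Ideal.Quotient.mk _ x)).symm)
      exact ⟨Ideal.Quotient.mk j a, ha⟩
  refine gorensteinRing_of_split (P := P) (A := A) (Ideal.Quotient.mk j) ι (fun a x => ?_)
    ((LinearEquiv.ofInjective ι hιi).symm.toLinearMap ∘ₗ ret) fun x => ?_
  · obtain ⟨b, rfl⟩ := Ideal.Quotient.mk_surjective x
    rw [← map_mul]
    exact mul_assoc a b f
  · rw [LinearMap.comp_apply]
    refine (LinearEquiv.ofInjective ι hιi).injective ?_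
    rw [LinearEquiv.coe_coe, LinearEquiv.apply_symm_apply]
    obtain ⟨b, rfl⟩ := Ideal.Quotient.mk_surjective x
    refine Subtype.ext ?_
    show ι (Ideal.Quotient.mk j b) - σ (Ideal.Quotient.mk _ (ι (Ideal.Quotient.mk j b))) = _
    rw [show ι (Ideal.Quotient.mk j b) = b * f from rfl,
      Ideal.Quotient.eq_zero_iff_mem.2 (Ideal.mem_span_singleton'.2 ⟨b, rfl⟩), map_zero, sub_zero]
    rfl

theorem gorenstein_quot_quot {R : Type u} [CommRing R] {c I : Ideal R} (hcI : c ≤ I) :
    LocCoh.IsGorensteinRing ((R ⧸ c) ⧸ I.map (Ideal.Quotient.mk c)) → LocCoh.IsGorensteinRing (R ⧸ I) :=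
  fun h => GorLib.gorensteinRing_of_ringEquiv (DoubleQuot.quotQuotEquivQuotOfLE hcI) h

/-- Colon of an almost complete intersection, abstractly. -/
theorem gorenstein_colon {k : Type u} [Field k] {R : Type u} [CommRing R] [Algebra k R] [Algebra.FiniteType k R]
    (h : ℕ∞) {c I : Ideal R} (f : R) [LocCoh.IsGorensteinRing (R ⧸ c)] (hIf : I = c ⊔ Ideal.span {f})
    [LocCoh.IsCohenMacaulayRing (R ⧸ I)] (hA : ∀ M : Ideal (R ⧸ c), M.IsMaximal → M.height = h)
    (hB : ∀ M : Ideal (R ⧸ I), M.IsMaximal → M.height = h) : LocCoh.IsGorensteinRing (R ⧸ c.colon (I : Set R)) := by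
  let π := Ideal.Quotient.mk c
  have hcI : c ≤ I := hIf ▸ le_sup_left
  let J := c.colon (I : Set R)
  have hcJ : c ≤ J := le_colon c I
  have hmap : I.map π = Ideal.span {π f} := by
    rw [hIf, Ideal.map_sup, Ideal.map_quotient_self, bot_sup_eq, Ideal.map_span, Set.image_singleton]
  haveI : LocCoh.IsCohenMacaulayRing ((R ⧸ c) ⧸ Ideal.span {π f}) := hmap ▸ (cm_quot_quot hcI).2 inferInstance
  haveI : Algebra.FiniteType k (R ⧸ c) := Algebra.FiniteType.of_surjective (Ideal.Quotient.mkₐ k c) Ideal.Quotient.mk_surjective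
  refine gorenstein_quot_quot hcJ (gorenstein_quot_ann_principal (k := k) h hA (π f) (J.map π) (fun a => ?_) fun M hM => ?_)
  · obtain ⟨a, rfl⟩ := Ideal.Quotient.mk_surjective a
    rw [← Ideal.mem_comap, Ideal.comap_map_mk hcJ, ← map_mul, Ideal.Quotient.eq_zero_iff_mem, mem_colon_ideal]
    refine ⟨fun h => h f (hIf ▸ Submodule.mem_sup_right (Ideal.mem_span_singleton_self f)), fun h x hx => ?_⟩
    rw [hIf] at hx
    obtain ⟨u, hu, v, hv, rfl⟩ := Submodule.mem_sup.1 hx
    obtain ⟨w, rfl⟩ := Ideal.mem_span_singleton'.1 hv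
    rw [mul_add, mul_left_comm a w f]
    exact c.add_mem (c.mul_mem_left a hu) (c.mul_mem_left w h)
  · haveI := hM
    let e : ((R ⧸ c) ⧸ Ideal.span {π f}) ≃+* R ⧸ I :=
      (Ideal.quotEquivOfEq hmap.symm).trans (DoubleQuot.quotQuotEquivQuotOfLE hcI)
    haveI : (M.comap e.symm.toRingHom).IsMaximal := Ideal.comap_isMaximal_of_surjective _ e.symm.surjective
    rw [← hB _ (inferInstance : (M.comap e.symm.toRingHom).IsMaximal)]
    exact (RingEquiv.height_comap e.symm M).symm

end Groth.Agent.LiaisonLib
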