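import Groth.Prelude.Def_GrSyz
import Groth.Agent.CMCat.Local
import Groth.Agent.CMCat.Polynomial
import Groth.Agent.CMGraded.Vertex
import Groth.Agent.GorLib.Ring
import Groth.Agent.GorLib.CM

/-!
# Unmixedness of homogeneous Cohen–Macaulay quotients of polynomial rings
-/

set_option autoImplicit false
set_option backward.isDefEq.respectTransparency false
universe u

open IsLocalRing

namespace Groth.Agent.LiaisonLib

variable {R : Type u} [CommRing R]

/-- In a Cohen–Macaulay ring the height grows by one along a covering pair. -/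
theorem height_covBy [LocCoh.IsCohenMacaulayRing R] {p q : PrimeSpectrum R} (hpq : p ⋖ q) :
    Order.height q = Order.height p + 1 := by
  let L := Localization.AtPrime q.asIdeal
  haveI : LocCoh.IsCohenMacaulayLocalRing L :=
    LocCoh.IsCohenMacaulayRing.isCohenMacaulayLocalRing_localization q.asIdeal
  have hd : Disjoint (q.asIdeal.primeCompl : Set R) (p.asIdeal : Set R) :=
    Set.disjoint_left.2 fun x hx hxp => hx (hpq.le hxp)
  let p' : PrimeSpectrum L := ⟨p.asIdeal.map (algebraMap R L),
    IsLocalization.isPrime_of_isPrime_disjoint q.asIdeal.primeCompl L _ p.isPrime hd⟩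
  have hp' : p'.asIdeal.comap (algebraMap R L) = p.asIdeal :=
    IsLocalization.under_map_of_isPrime_disjoint q.asIdeal.primeCompl L p.isPrime hd
  have hmax : (maximalIdeal L).comap (algebraMap R L) = q.asIdeal :=
    IsLocalization.AtPrime.comap_maximalIdeal L q.asIdeal
  have hlt : p' < closedPoint L := lt_of_le_of_ne (le_maximalIdeal p'.isPrime.ne_top) fun e => hpq.ne
    (PrimeSpectrum.ext (hp'.symm.trans ((congrArg (fun z => z.asIdeal.comap (algebraMap R L)) e).trans hmax)))
  have honly : ∀ y, p' < y → y = closedPoint L := fun y hy => by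
    by_contra hne
    have h1 : PrimeSpectrum.comap (algebraMap R L) p' < PrimeSpectrum.comap (algebraMap R L) y :=
      (IsLocalization.orderEmbedding q.asIdeal.primeCompl L).strictMono hy
    have h2 : PrimeSpectrum.comap (algebraMap R L) y < PrimeSpectrum.comap (algebraMap R L) (closedPoint L) :=
      (IsLocalization.orderEmbedding q.asIdeal.primeCompl L).strictMono
        (lt_of_le_of_ne (le_maximalIdeal y.isPrime.ne_top) fun e => hne (PrimeSpectrum.ext e))
    rw [show PrimeSpectrum.comap (algebraMap R L) p' = p from PrimeSpectrum.ext hp'] at h1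
    rw [show PrimeSpectrum.comap (algebraMap R L) (closedPoint L) = q from PrimeSpectrum.ext hmax] at h2
    exact hpq.2 h1 h2
  have h1 : Order.coheight p' = 1 := by
    have hc : Order.coheight (closedPoint L) = 0 :=
      Order.coheight_eq_zero.2 fun y _ => le_maximalIdeal y.isPrime.ne_top
    rw [show (1 : ℕ∞) = ((0 : ℕ) : ℕ∞) + 1 by simp]
    exact Order.coheight_eq_coe_add_one_iff.2 ⟨lt_top_iff_ne_top.2 (CatLib.coheight_ne_top p'),
      ⟨closedPoint L, hlt, by simpa using hc⟩, fun y hy => by rw [honly y hy]; simpa using hc.le⟩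
  have h2 := (CMCat.height_add_and_cm p'.asIdeal (hp := p'.isPrime)).2
  rw [CatLib.ringKrullDim_quotient_eq_coheight p', h1, ← maximalIdeal_height_eq_ringKrullDim,
    ← WithBot.coe_add, WithBot.coe_eq_coe, ← IsLocalization.height_comap q.asIdeal.primeCompl p'.asIdeal, Ideal.under_def, hp',
    ← IsLocalization.height_comap q.asIdeal.primeCompl (maximalIdeal L), Ideal.under_def, hmax] at h2
  rw [← PrimeSpectrum.height_eq_orderHeight, ← PrimeSpectrum.height_eq_orderHeight]
  exact h2.symm

theorem height_ne_top [IsNoetherianRing R] (p : PrimeSpectrum R) : Order.height p ≠ ⊤ := by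
  rw [← PrimeSpectrum.height_eq_orderHeight]
  exact Ideal.height_ne_top p.isPrime.ne_top

/-- In a Cohen–Macaulay quotient of a Cohen–Macaulay ring heights differ by a constant along chains. -/
theorem height_comap_add [LocCoh.IsCohenMacaulayRing R] (I : Ideal R) [LocCoh.IsCohenMacaulayRing (R ⧸ I)]
    {x y : PrimeSpectrum (R ⧸ I)} (h : x ≤ y) :
    (y.asIdeal.comap (Ideal.Quotient.mk I)).height + x.asIdeal.height =
      (x.asIdeal.comap (Ideal.Quotient.mk I)).height + y.asIdeal.height := by
  let g : PrimeSpectrum (R ⧸ I) → PrimeSpectrum R := PrimeSpectrum.comap (Ideal.Quotient.mk I)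
  have hg : StrictMono g := RingHom.strictMono_comap_of_surjective Ideal.Quotient.mk_surjective
  have hcov : ∀ a b, a ⋖ b → g a ⋖ g b := by
    intro a b hab
    refine ⟨hg hab.lt, fun c h1 h2 => ?_⟩
    have hI : I ≤ c.asIdeal := fun r hr => h1.le (show Ideal.Quotient.mk I r ∈ a.asIdeal by
      rw [Ideal.Quotient.eq_zero_iff_mem.2 hr]; exact zero_mem _)
    let c' : PrimeSpectrum (R ⧸ I) := ⟨c.asIdeal.map (Ideal.Quotient.mk I),
      Ideal.map_isPrime_of_surjective Ideal.Quotient.mk_surjective (by rw [Ideal.mk_ker]; exact hI)⟩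
    have hc' : g c' = c := PrimeSpectrum.ext (Ideal.comap_map_mk hI)
    have hmono : ∀ u v, g u < g v → u < v := fun u v huv =>
      lt_of_le_of_ne ((Ideal.comap_le_comap_iff_of_surjective _ Ideal.Quotient.mk_surjective _ _).1 huv.le)
        fun e => huv.ne (congrArg g e)
    exact hab.2 (hmono _ _ (hc'.symm ▸ h1)) (hmono _ _ (hc'.symm ▸ h2))
  have key : Order.height (g y) + Order.height x = Order.height (g x) + Order.height y := by
    revert h
    induction' hn : (Order.height y).toNat using Nat.strong_induction_on with n ih generalizing y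
    intro h
    rcases h.eq_or_lt with rfl | hlt
    · rfl
    obtain ⟨z, hxz, hzy⟩ : ∃ z, x ≤ z ∧ z ⋖ y := by
      obtain ⟨_, ⟨z, ⟨hxz, hzy⟩, rfl⟩, hz⟩ := wellFounded_gt.has_min (α := Ideal (R ⧸ I))
        ((fun p : PrimeSpectrum (R ⧸ I) => p.asIdeal) '' {z | x ≤ z ∧ z < y}) ⟨_, x, ⟨le_rfl, hlt⟩, rfl⟩
      exact ⟨z, hxz, hzy, fun w hzw hwy => hz w.asIdeal ⟨w, ⟨hxz.trans hzw.le, hwy⟩, rfl⟩ hzw⟩
    have hy : Order.height y = Order.height z + 1 := height_covBy hzy
    have hlt' : (Order.height z).toNat < n := by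
      obtain ⟨a, ha⟩ := ENat.ne_top_iff_exists.mp (height_ne_top z)
      rw [← hn, hy, ← ha]
      exact_mod_cast Nat.lt_succ_self a
    rw [height_covBy (hcov z y hzy), hy, add_right_comm, ih _ hlt' rfl hxz, add_assoc]
  rw [← PrimeSpectrum.height_eq_orderHeight, ← PrimeSpectrum.height_eq_orderHeight, ← PrimeSpectrum.height_eq_orderHeight,
    ← PrimeSpectrum.height_eq_orderHeight] at key
  exact key

/-- A Cohen–Macaulay ring has no embedded primes. -/
theorem height_eq_zero_of_mem_associatedPrimes [LocCoh.IsCohenMacaulayRing R] {p : Ideal R}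
    (hp : p ∈ associatedPrimes R R) : p.height = 0 := by
  obtain ⟨hpp, x, hx⟩ := isAssociatedPrime_iff.1 hp
  haveI := hpp
  haveI hcm : LocCoh.IsCohenMacaulayLocalRing (Localization.AtPrime p) :=
    LocCoh.IsCohenMacaulayRing.isCohenMacaulayLocalRing_localization p
  let L := Localization.AtPrime p
  have hx0 : algebraMap R L x ≠ 0 := fun h0 => by
    obtain ⟨⟨s, hs⟩, hsx⟩ := (IsLocalization.map_eq_zero_iff p.primeCompl L x).1 h0
    exact hs (hx ▸ Submodule.mem_colon_singleton.2 ((Submodule.mem_bot _).2 hsx))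
  have hass : maximalIdeal L ∈ associatedPrimes L L := by
    refine isAssociatedPrime_iff.2 ⟨(maximalIdeal.isMaximal L).isPrime, algebraMap R L x, ?_⟩
    refine (maximalIdeal.isMaximal L).eq_of_le (fun h => hx0 ?_) ?_
    · have h1 := (Ideal.eq_top_iff_one _).1 h
      rwa [Submodule.mem_colon_singleton, one_smul, Submodule.mem_bot] at h1
    · rw [← Localization.AtPrime.map_eq_maximalIdeal, Ideal.map_le_iff_le_comap]
      intro r hr
      rw [hx, Submodule.mem_colon_singleton, Submodule.mem_bot, smul_eq_mul] at hr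
      rw [Ideal.mem_comap, Submodule.mem_colon_singleton, Submodule.mem_bot, smul_eq_mul, ← map_mul, hr, map_zero]
  obtain ⟨d, hd⟩ := ENat.ne_top_iff_exists.mp (Ideal.height_ne_top (I := p) hpp.ne_top)
  have hdep : LocCoh.depth L L = (d : ℕ∞) := by
    have h1 := hcm.supportDim_eq_depth
    rw [Module.supportDim_self_eq_ringKrullDim, IsLocalization.AtPrime.ringKrullDim_eq_height p, ← hd] at h1
    exact (WithBot.coe_inj.1 h1).symm
  have h2 := CMCat.depth_le_ringKrullDim_quotient hdep hass
  letI := Ideal.Quotient.field (maximalIdeal L)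
  rw [ringKrullDim_eq_zero_of_field] at h2
  rw [← hd]
  exact_mod_cast le_antisymm h2 (by positivity)

/-- All associated primes of a Cohen–Macaulay quotient inside one prime have the same height. -/
theorem height_eq_of_associated [LocCoh.IsCohenMacaulayRing R] (I : Ideal R) [LocCoh.IsCohenMacaulayRing (R ⧸ I)]
    (m : Ideal R) [m.IsPrime] (hm : ∀ P ∈ associatedPrimes R (R ⧸ I), P ≤ m)
    {P : Ideal R} (hP : P ∈ associatedPrimes R (R ⧸ I)) : P.height = I.height := by
  haveI : IsNoetherianRing R := inferInstance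
  have key : ∀ Q ∈ associatedPrimes R (R ⧸ I), ∃ hIm : (m.map (Ideal.Quotient.mk I)).IsPrime,
      m.height = Q.height + (m.map (Ideal.Quotient.mk I)).height := by
    intro Q hQ
    have hQm := hm Q hQ
    obtain ⟨hQp, x, hx⟩ := isAssociatedPrime_iff.1 hQ
    haveI := hQp
    have hIQ : I ≤ Q := fun r hr => by
      rw [hx, Submodule.mem_colon_singleton, Submodule.mem_bot]
      obtain ⟨y, rfl⟩ := Ideal.Quotient.mk_surjective x
      exact Ideal.Quotient.eq_zero_iff_mem.2 (I.mul_mem_right y hr)
    let Q' : PrimeSpectrum (R ⧸ I) := ⟨Q.map (Ideal.Quotient.mk I),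
      Ideal.map_isPrime_of_surjective Ideal.Quotient.mk_surjective (by rw [Ideal.mk_ker]; exact hIQ)⟩
    let m' : PrimeSpectrum (R ⧸ I) := ⟨m.map (Ideal.Quotient.mk I),
      Ideal.map_isPrime_of_surjective Ideal.Quotient.mk_surjective (by rw [Ideal.mk_ker]; exact hIQ.trans hQm)⟩
    refine ⟨m'.isPrime, ?_⟩
    have hQ' : Q'.asIdeal ∈ associatedPrimes (R ⧸ I) (R ⧸ I) := by
      refine isAssociatedPrime_iff.2 ⟨Q'.isPrime, x, Ideal.ext fun z => ?_⟩
      obtain ⟨r, rfl⟩ := Ideal.Quotient.mk_surjective z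
      rw [Submodule.mem_colon_singleton, Submodule.mem_bot]
      refine ⟨fun hr => ?_, fun hr => Ideal.mem_map_of_mem _ ?_⟩
      · have hr' : r ∈ Q := by
          rwa [← Ideal.comap_map_mk hIQ, Ideal.mem_comap]
        rw [hx, Submodule.mem_colon_singleton, Submodule.mem_bot] at hr'
        exact hr'
      · rw [hx, Submodule.mem_colon_singleton, Submodule.mem_bot]
        exact hr
    have h1 := height_comap_add I (x := Q') (y := m') (Ideal.map_mono hQm)
    rw [height_eq_zero_of_mem_associatedPrimes hQ', add_zero] at h1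
    show m.height = Q.height + m'.asIdeal.height
    rwa [show m'.asIdeal.comap (Ideal.Quotient.mk I) = m from Ideal.comap_map_mk (hIQ.trans hQm),
      show Q'.asIdeal.comap (Ideal.Quotient.mk I) = Q from Ideal.comap_map_mk hIQ] at h1
  obtain ⟨hm', hPe⟩ := key P hP
  haveI := hm'
  obtain ⟨hPp, x, hx⟩ := isAssociatedPrime_iff.1 hP
  haveI := hPp
  have hIP : I ≤ P := fun r hr => by
    rw [hx, Submodule.mem_colon_singleton, Submodule.mem_bot]
    obtain ⟨y, rfl⟩ := Ideal.Quotient.mk_surjective x
    exact Ideal.Quotient.eq_zero_iff_mem.2 (I.mul_mem_right y hr)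
  rw [Ideal.height_eq_inf_minimalPrimes (I := I)]
  refine le_antisymm (le_iInf₂ fun Q hQ => ?_) (Ideal.height_eq_inf_minimalPrimes (I := I) ▸ Ideal.height_mono hIP)
  haveI := hQ.1.1
  have hQass : Q ∈ associatedPrimes R (R ⧸ I) :=
    Module.associatedPrimes.minimalPrimes_annihilator_subset_associatedPrimes R (R ⧸ I)
      (by rwa [Ideal.annihilator_quotient])
  obtain ⟨-, hQe⟩ := key Q hQass
  have hfin : (m.map (Ideal.Quotient.mk I)).height ≠ ⊤ := Ideal.height_ne_top hm'.ne_top
  rw [hPe] at hQe
  exact ((ENat.addLECancellable_of_ne_top hfin).inj_left.1 hQe).le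

/-- Gorenstein rings are Cohen–Macaulay. -/
theorem cm_of_gorenstein [h : LocCoh.IsGorensteinRing R] : LocCoh.IsCohenMacaulayRing R :=
  { isCohenMacaulayLocalRing_localization := fun p _ =>
      haveI := h.isGorensteinLocalRing_localization p
      GorLib.isCohenMacaulay _ (h.isGorensteinLocalRing_localization p) }

section Graded

variable {K : Type u} [Field K] {n : ℕ}

local notation "Pol" => MvPolynomial (Fin (n + 1)) K

open MvPolynomial

theorem isHomog_of {I : Ideal Pol} (hI : I.IsHomogeneous (GrSyz.stdGr K (Fin (n + 1)))) : CMGraded.IsHomog I := by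
  intro f hf m
  have h : ((DirectSum.decompose (GrSyz.stdGr K (Fin (n + 1))) f (m : ℤ) : _) : Pol) = homogeneousComponent m f := by
    rw [show ((DirectSum.decompose (GrSyz.stdGr K (Fin (n + 1))) f (m : ℤ) : _) : Pol) =
      weightedHomogeneousComponent (fun _ : Fin (n + 1) => (1 : ℤ)) (m : ℤ) f from
      weightedDecomposition.decompose'_apply K (fun _ : Fin (n + 1) => (1 : ℤ)) f (m : ℤ)]
    classical
    ext d
    rw [coeff_weightedHomogeneousComponent, coeff_homogeneousComponent]
    refine if_congr ?_ rfl rfl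
    rw [Finsupp.weight_apply, Finsupp.degree_apply, Finsupp.sum]
    simp only [nsmul_eq_mul, mul_one]
    exact_mod_cast Iff.rfl
  exact h ▸ hI (m : ℤ) hf

instance cm_mvPolynomial : LocCoh.IsCohenMacaulayRing Pol := by
  haveI : LocCoh.IsGorensteinRing K := GorLib.gorensteinRing_of_regular K
  haveI : LocCoh.IsCohenMacaulayRing K := cm_of_gorenstein
  exact CMCat.isCohenMacaulayRing_mvPolynomial _

theorem associatedPrime_le_vertex {I : Ideal Pol} (hI : I.IsHomogeneous (GrSyz.stdGr K (Fin (n + 1))))
    {P : Ideal Pol} (hP : P ∈ associatedPrimes Pol (Pol ⧸ I)) :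
    P ≤ RingHom.ker (constantCoeff : Pol →+* K) := by
  obtain ⟨hPp, x, hx⟩ := isAssociatedPrime_iff.1 hP
  obtain ⟨f, rfl⟩ := Ideal.Quotient.mk_surjective x
  intro s hs
  by_contra hs'
  rw [hx, Submodule.mem_colon_singleton, Submodule.mem_bot] at hs
  have h1 : f ∈ I := CMGraded.mem_of_mul_mem (isHomog_of hI) hs' (Ideal.Quotient.eq_zero_iff_mem.1 hs)
  refine hPp.ne_top ((Ideal.eq_top_iff_one P).2 ?_)
  rw [hx, Submodule.mem_colon_singleton, Submodule.mem_bot, one_smul]
  exact Ideal.Quotient.eq_zero_iff_mem.2 h1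

/-- Homogeneous Cohen–Macaulay quotients of polynomial rings are unmixed. -/
theorem height_associated {I : Ideal Pol} (hI : I.IsHomogeneous (GrSyz.stdGr K (Fin (n + 1))))
    [LocCoh.IsCohenMacaulayRing (Pol ⧸ I)] {P : Ideal Pol} (hP : P ∈ associatedPrimes Pol (Pol ⧸ I)) :
    P.height = I.height :=
  haveI : (RingHom.ker (constantCoeff : Pol →+* K)).IsPrime := RingHom.ker_isPrime _
  height_eq_of_associated I _ (fun _ hQ => associatedPrime_le_vertex hI hQ) hP

end Graded

end Groth.Agent.LiaisonLib
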