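import Groth.Agent.LiaisonLib.Basic
import Groth.Agent.GorLib.Artinian

/-!
# Colon ideals in Gorenstein quotients
-/

set_option autoImplicit false
set_option backward.isDefEq.respectTransparency false
universe u

open IsLocalRing

namespace Groth.Agent.LiaisonLib

variable {R : Type u} [CommRing R]

theorem mem_colon_ideal {c I : Ideal R} {r : R} : r ∈ c.colon (I : Set R) ↔ ∀ i ∈ I, r * i ∈ c := by
  rw [Submodule.mem_colon]; rfl

theorem le_colon (c I : Ideal R) : c ≤ c.colon (I : Set R) := fun _ hr =>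
  mem_colon_ideal.2 fun i _ => c.mul_mem_right i hr

theorem le_of_mem_ass {I P : Ideal R} [IsNoetherianRing R] (hP : P ∈ associatedPrimes R (R ⧸ I)) : I ≤ P := by
  obtain ⟨-, x, hx⟩ := isAssociatedPrime_iff.1 hP
  intro r hr
  rw [hx, Submodule.mem_colon_singleton, Submodule.mem_bot]
  obtain ⟨y, rfl⟩ := Ideal.Quotient.mk_surjective x
  exact Ideal.Quotient.eq_zero_iff_mem.2 (I.mul_mem_right y hr)

theorem ass_of_minimal [IsNoetherianRing R] {I P : Ideal R} (hP : P ∈ I.minimalPrimes) :
    P ∈ associatedPrimes R (R ⧸ I) :=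
  Module.associatedPrimes.minimalPrimes_annihilator_subset_associatedPrimes R (R ⧸ I)
    (by rwa [Ideal.annihilator_quotient])

theorem exists_ass_of_not_mem [IsNoetherianRing R] {c : Ideal R} {x : R} (hx : x ∉ c) :
    ∃ P ∈ associatedPrimes R (R ⧸ c), ∀ r, r * x ∈ c → r ∈ P := by
  obtain ⟨P, hP, hle⟩ := exists_le_isAssociatedPrime_of_isNoetherianRing R (Ideal.Quotient.mk c x)
    fun h => hx (Ideal.Quotient.eq_zero_iff_mem.1 h)
  refine ⟨P, hP, fun r hr => hle ?_⟩
  rw [Submodule.mem_colon_singleton, Submodule.mem_bot]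
  exact Ideal.Quotient.eq_zero_iff_mem.2 hr

/-- `R/(c : I)` embeds in copies of `R/c`, so its associated primes are among those of `R/c`. -/
theorem ass_colon_subset [IsNoetherianRing R] (c I : Ideal R) {P : Ideal R}
    (hP : P ∈ associatedPrimes R (R ⧸ c.colon (I : Set R))) : P ∈ associatedPrimes R (R ⧸ c) := by
  obtain ⟨hPp, x, hx⟩ := isAssociatedPrime_iff.1 hP
  obtain ⟨x, rfl⟩ := Ideal.Quotient.mk_surjective x
  obtain ⟨G, hG⟩ : I.FG := IsNoetherian.noetherian I
  have hmem : ∀ r, r ∈ P ↔ ∀ i ∈ G, r * (x * i) ∈ c := fun r => by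
    rw [hx, Submodule.mem_colon_singleton, Submodule.mem_bot]
    refine Ideal.Quotient.eq_zero_iff_mem.trans ?_
    rw [mem_colon_ideal]
    refine ⟨fun h i hi => by rw [← mul_assoc]; exact h i (hG ▸ Ideal.subset_span hi), fun h => ?_⟩
    have hle : I ≤ c.colon ({r * x} : Set R) := by
      rw [← hG]
      refine Ideal.span_le.2 fun i hi => ?_
      rw [SetLike.mem_coe, Submodule.mem_colon_singleton, smul_eq_mul, mul_comm i, mul_assoc]
      exact h i hi
    intro i hi
    have h1 := hle hi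
    rwa [Submodule.mem_colon_singleton, smul_eq_mul, mul_comm] at h1
  have hle : G.inf (fun i => c.colon ({x * i} : Set R)) ≤ P := fun r hr => by
    rw [hmem]
    intro i hi
    have h1 := Finset.inf_le (f := fun i => c.colon ({x * i} : Set R)) hi hr
    rwa [Submodule.mem_colon_singleton] at h1
  obtain ⟨i, hi, hiP⟩ := (Ideal.IsPrime.inf_le' hPp).1 hle
  refine isAssociatedPrime_iff.2 ⟨hPp, Ideal.Quotient.mk c (x * i), ?_⟩
  have heq : (⊥ : Submodule R (R ⧸ c)).colon {Ideal.Quotient.mk c (x * i)} = c.colon ({x * i} : Set R) := by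
    ext r
    rw [Submodule.mem_colon_singleton, Submodule.mem_colon_singleton, Submodule.mem_bot]
    exact Ideal.Quotient.eq_zero_iff_mem
  rw [heq]
  refine le_antisymm (fun r hr => ?_) hiP
  rw [Submodule.mem_colon_singleton]
  exact (hmem r).1 hr i hi

/-- Double annihilators in an Artinian Gorenstein local ring. -/
theorem mem_of_double_ann {L : Type u} [CommRing L] [IsLocalRing L] [IsArtinianRing L]
    (h : LocCoh.IsGorensteinLocalRing L) (J : Ideal L) (x : L)
    (hx : ∀ a : L, (∀ j ∈ J, a * j = 0) → a * x = 0) : x ∈ J := by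
  by_contra hxJ
  haveI : Module.Injective L L := by
    obtain ⟨j, hj⟩ := InjHullLib.exists_residueField_embedding (R := L)
    exact GorLib.selfInjective_of_embedding h hj
  obtain ⟨s, hs⟩ := InjHullLib.exists_residueField_embedding (R := L)
  let N := L ⧸ J
  let y : N := Ideal.Quotient.mk J x
  let C := Submodule.span L {y}
  obtain ⟨P, hP⟩ : ∃ f : C →ₗ[L] ResidueField L, f ≠ 0 := by
    have hy : y ≠ 0 := fun h0 => hxJ (Ideal.Quotient.eq_zero_iff_mem.1 h0)
    let t := LinearMap.toSpanSingleton L C ⟨y, Submodule.mem_span_singleton_self y⟩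
    have ht : Function.Surjective t := fun z => by
      obtain ⟨r, hr⟩ := Submodule.mem_span_singleton.1 z.2
      exact ⟨r, Subtype.ext hr⟩
    have hker : LinearMap.ker t ≤ maximalIdeal L := by
      refine le_maximalIdeal fun htop => hy ?_
      have h1 : (1 : L) ∈ LinearMap.ker t := htop ▸ Submodule.mem_top
      exact (one_smul L y).symm.trans (congrArg Subtype.val (LinearMap.mem_ker.1 h1))
    let f : C →ₗ[L] ResidueField L := (Submodule.mapQ (LinearMap.ker t) (maximalIdeal L) LinearMap.id hker) ∘ₗ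
      (t.quotKerEquivOfSurjective ht).symm.toLinearMap
    refine ⟨f, fun h0 => one_ne_zero (α := ResidueField L) ?_⟩
    have h1 := LinearMap.congr_fun h0 (t 1)
    simp only [f, LinearMap.comp_apply, LinearEquiv.coe_coe, LinearMap.zero_apply] at h1
    rw [show (t.quotKerEquivOfSurjective ht).symm (t 1) = Submodule.Quotient.mk 1 from
      (LinearEquiv.symm_apply_eq _).2 rfl] at h1
    exact h1
  obtain ⟨φ, hφ⟩ := Module.Injective.out C.subtype Subtype.val_injective (s ∘ₗ P)
  have hφ1 : φ 1 * x = φ y := by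
    rw [mul_comm, ← smul_eq_mul, ← map_smul]
    exact congrArg φ (show x • (1 : N) = y by
      show Ideal.Quotient.mk J (x * 1) = Ideal.Quotient.mk J x
      rw [mul_one])
  have h0 : φ y = 0 := hφ1 ▸ hx (φ 1) fun j hj => by
    rw [mul_comm, ← smul_eq_mul, ← map_smul, show j • (1 : N) = 0 from by
      rw [← map_one (Ideal.Quotient.mk J)]
      exact Ideal.Quotient.eq_zero_iff_mem.2 (J.mul_mem_right 1 hj), map_zero]
  refine hP (LinearMap.ext fun z => hs ?_)
  obtain ⟨r, hr⟩ := Submodule.mem_span_singleton.1 z.2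
  have h1 := hφ z
  rw [LinearMap.comp_apply] at h1
  rw [LinearMap.zero_apply, map_zero, ← h1, show C.subtype z = r • y from hr.symm, map_smul, h0, smul_zero]

/-- `c : (c : I) ≤ I` when `I` has no associated prime outside the minimal primes of the Gorenstein quotient. -/
theorem colon_colon_le [IsNoetherianRing R] (c I : Ideal R) [LocCoh.IsGorensteinRing (R ⧸ c)] (hcI : c ≤ I)
    (hmin : ∀ P ∈ associatedPrimes R (R ⧸ I), P ∈ c.minimalPrimes) :
    c.colon ((c.colon (I : Set R) : Ideal R) : Set R) ≤ I := by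
  intro x hx
  by_contra hxI
  obtain ⟨P, hP, hxP⟩ := exists_ass_of_not_mem hxI
  haveI := (isAssociatedPrime_iff.1 hP).1
  have hcP : c ≤ P := hcI.trans (le_of_mem_ass hP)
  let A := R ⧸ c
  let P' : Ideal A := P.map (Ideal.Quotient.mk c)
  haveI hP' : P'.IsPrime := Ideal.map_isPrime_of_surjective Ideal.Quotient.mk_surjective (by rw [Ideal.mk_ker]; exact hcP)
  have hP'min : P' ∈ minimalPrimes A := by
    refine ⟨⟨hP', bot_le⟩, fun Q hQ hle => ?_⟩
    haveI := hQ.1
    have h1 : c ≤ Q.comap (Ideal.Quotient.mk c) := fun r hr => by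
      rw [Ideal.mem_comap, Ideal.Quotient.eq_zero_iff_mem.2 hr]; exact zero_mem _
    have h2 := (hmin P hP).2 ⟨inferInstance, h1⟩ ((Ideal.comap_mono hle).trans (Ideal.comap_map_mk hcP).le)
    calc P' ≤ (Q.comap (Ideal.Quotient.mk c)).map (Ideal.Quotient.mk c) := Ideal.map_mono h2
      _ ≤ Q := Ideal.map_comap_le
  let L := Localization.AtPrime P'
  haveI : IsArtinianRing L := by
    haveI : IsNoetherianRing L := IsLocalization.isNoetherianRing P'.primeCompl L inferInstance
    haveI : Ring.KrullDimLE 0 L := Ring.krullDimLE_iff.2 (by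
      rw [IsLocalization.AtPrime.ringKrullDim_eq_height P']
      have h0 : P'.height = 0 := Ideal.height_eq_zero_iff.2 hP'min
      rw [h0]; exact le_rfl)
    exact isArtinianRing_iff_isNoetherianRing_krullDimLE_zero.2 ⟨inferInstance, inferInstance⟩
  let φ : R →+* L := (algebraMap A L).comp (Ideal.Quotient.mk c)
  have hzero : ∀ r : R, φ r = 0 → ∃ u ∉ P, u * r ∈ c := fun r hr => by
    obtain ⟨⟨u', hu'⟩, hur⟩ := (IsLocalization.map_eq_zero_iff P'.primeCompl L _).1 hr
    obtain ⟨u, rfl⟩ := Ideal.Quotient.mk_surjective u'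
    refine ⟨u, fun hu => hu' (Ideal.mem_map_of_mem _ hu), Ideal.Quotient.eq_zero_iff_mem.1 ?_⟩
    rw [map_mul]; exact hur
  have hunit : ∀ u ∉ P, IsUnit (φ u) := fun u hu => IsLocalization.map_units L
    (⟨Ideal.Quotient.mk c u, fun h => hu ((Ideal.comap_map_mk hcP).le h)⟩ : P'.primeCompl)
  have hfrac : ∀ z : L, ∃ r, ∃ u ∉ P, z * φ u = φ r := fun z => by
    obtain ⟨⟨a', ⟨u', hu'⟩⟩, hz⟩ := IsLocalization.surj P'.primeCompl z
    obtain ⟨a, rfl⟩ := Ideal.Quotient.mk_surjective a'
    obtain ⟨u, rfl⟩ := Ideal.Quotient.mk_surjective u'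
    exact ⟨a, u, fun hu => hu' (Ideal.mem_map_of_mem _ hu), hz⟩
  have hx' : φ x ∈ I.map φ := by
    refine mem_of_double_ann (LocCoh.IsGorensteinRing.isGorensteinLocalRing_localization P') _ _ fun a ha => ?_
    obtain ⟨r, u, hu, hr⟩ := hfrac a
    obtain ⟨G, hG⟩ : I.FG := IsNoetherian.noetherian I
    have hG' : ∀ i ∈ G, ∃ v ∉ P, v * (r * i) ∈ c := fun i hi => hzero _ (by
      rw [map_mul, ← hr, mul_right_comm, ha _ (Ideal.mem_map_of_mem φ (hG ▸ Ideal.subset_span hi)), zero_mul])
    choose v hv hvc using hG'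
    classical
    let V := ∏ i ∈ G.attach, v i.1 i.2
    have hV : V ∉ P := fun h => by
      obtain ⟨i, -, hi⟩ := (Ideal.IsPrime.prod_mem_iff (p := P)).1 h
      exact hv _ _ hi
    have hVr : V * r ∈ c.colon (I : Set R) := by
      rw [mem_colon_ideal]
      have hle : I ≤ c.colon ({V * r} : Set R) := by
        rw [← hG]
        refine Ideal.span_le.2 fun i hi => ?_
        rw [SetLike.mem_coe, Submodule.mem_colon_singleton, smul_eq_mul]
        obtain ⟨w, hw⟩ := Finset.dvd_prod_of_mem (fun i : {x // x ∈ G} => v i.1 i.2) (Finset.mem_attach G ⟨i, hi⟩)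
        rw [show i * (V * r) = w * (v i hi * (r * i)) by rw [show V = v i hi * w from hw]; ring]
        exact c.mul_mem_left _ (hvc i hi)
      intro i hi
      have h1 := hle hi
      rwa [Submodule.mem_colon_singleton, smul_eq_mul, mul_comm] at h1
    have h1 : φ (x * (V * r)) = 0 := by
      show algebraMap A L (Ideal.Quotient.mk c _) = 0
      rw [Ideal.Quotient.eq_zero_iff_mem.2 (mem_colon_ideal.1 hx _ hVr), map_zero]
    rw [map_mul, map_mul, ← hr, show φ x * (φ V * (a * φ u)) = φ V * φ u * (a * φ x) by ring] at h1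
    exact ((hunit V hV).mul (hunit u hu)).mul_right_eq_zero.1 h1
  have hIe : I.map φ = (I.map (Ideal.Quotient.mk c)).map (algebraMap A L) := (Ideal.map_map _ _).symm
  rw [hIe, show φ x = algebraMap A L (Ideal.Quotient.mk c x) from rfl,
    IsLocalization.algebraMap_mem_map_algebraMap_iff P'.primeCompl] at hx'
  obtain ⟨u', hu', hux⟩ := hx'
  obtain ⟨u, rfl⟩ := Ideal.Quotient.mk_surjective u'
  refine hu' (Ideal.mem_map_of_mem _ (hxP u ?_))
  rw [← map_mul, ← Ideal.mem_comap, Ideal.comap_map_of_surjective _ Ideal.Quotient.mk_surjective,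
    ← RingHom.ker_eq_comap_bot, Ideal.mk_ker, sup_eq_left.2 hcI] at hux
  exact hux

theorem height_ge_of_ass [IsNoetherianRing R] {I : Ideal R} {c : ℕ∞}
    (h : ∀ P ∈ associatedPrimes R (R ⧸ I), c ≤ P.height) : c ≤ I.height := by
  rw [Ideal.height_eq_inf_minimalPrimes]
  exact le_iInf₂ fun P hP => h P (ass_of_minimal hP)

/-- A prime of height at most that of `I` containing it is minimal over it. -/
theorem minimal_of_height_le [IsNoetherianRing R] {I P : Ideal R} [P.IsPrime] (hIP : I ≤ P)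
    (h : P.height ≤ I.height) : P ∈ I.minimalPrimes := by
  obtain ⟨Q, hQ, hQP⟩ := Ideal.exists_minimalPrimes_le hIP
  haveI := hQ.1.1
  rcases hQP.eq_or_lt with rfl | hlt
  · exact hQ
  · exfalso
    have h3 := Ideal.height_add_one_le_of_lt_of_isPrime hlt
    have h4 : I.height ≤ Q.height := Ideal.height_mono hQ.1.2
    exact ((ENat.add_one_le_iff (Ideal.height_ne_top hQ.1.1.ne_top)).1 (h3.trans (h.trans h4))).false

end Groth.Agent.LiaisonLib
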