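import Groth.Agent.LiaisonLib.Colon

/-!
# Basic double links
-/

set_option autoImplicit false
set_option backward.isDefEq.respectTransparency false
universe u

open IsLocalRing RingTheory.Sequence

namespace Groth.Agent.LiaisonLib

/-- Associated primes of the quotient of a Cohen–Macaulay ring by a regular element have height one. -/
theorem height_eq_one_of_ass {A : Type u} [CommRing A] [LocCoh.IsCohenMacaulayRing A] {f : A}
    (hf : ∀ a, f * a = 0 → a = 0) {P : Ideal A} (hP : P ∈ associatedPrimes A (A ⧸ Ideal.span {f})) :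
    P.height = 1 := by
  obtain ⟨hPp, x, hx⟩ := isAssociatedPrime_iff.1 hP
  haveI := hPp
  obtain ⟨x, rfl⟩ := Ideal.Quotient.mk_surjective x
  have hfP : f ∈ P := le_of_mem_ass hP (Ideal.mem_span_singleton_self f)
  let L := Localization.AtPrime P
  haveI hcm : LocCoh.IsCohenMacaulayLocalRing L :=
    LocCoh.IsCohenMacaulayRing.isCohenMacaulayLocalRing_localization P
  have hm : maximalIdeal L • (⊤ : Submodule L L) ≠ ⊤ := S14424.smul_top_ne (maximalIdeal L) Ideal.IsPrime.ne_top'
  have hmem : ∀ r, r ∈ P ↔ r * x ∈ Ideal.span {f} := fun r => by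
    rw [hx, Submodule.mem_colon_singleton, Submodule.mem_bot]
    exact Ideal.Quotient.eq_zero_iff_mem
  have hspan : (Ideal.ofList [algebraMap A L f] • ⊤ : Submodule L L) = (Ideal.span {f}).map (algebraMap A L) := by
    rw [Ideal.ofList_singleton, smul_eq_mul, Ideal.mul_top, Ideal.map_span, Set.image_singleton]
  have hmax : Depth.IsMaxSeq (maximalIdeal L) L [algebraMap A L f] := by
    refine ⟨?_, fun r hr => ?_, algebraMap A L x, ?_, fun r hr => ?_⟩
    · rw [isWeaklyRegular_cons_iff]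
      refine ⟨isSMulRegular_iff_right_eq_zero_of_smul.2 fun z hz => ?_, IsWeaklyRegular.nil _ _⟩
      obtain ⟨⟨a, s⟩, rfl⟩ := IsLocalization.mk'_surjective P.primeCompl z
      rw [smul_eq_mul, IsLocalization.mul_mk'_eq_mk'_of_mul, IsLocalization.mk'_eq_zero_iff] at hz
      obtain ⟨t, ht⟩ := hz
      rw [mul_left_comm] at ht
      exact (IsLocalization.mk'_eq_zero_iff a s).2 ⟨t, hf _ ht⟩
    · rw [List.mem_singleton] at hr
      rw [hr]
      exact (IsLocalization.AtPrime.to_map_mem_maximal_iff L P f).2 hfP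
    · rw [hspan]
      intro h
      obtain ⟨u, hu, hux⟩ := (IsLocalization.algebraMap_mem_map_algebraMap_iff P.primeCompl L _ _).1 h
      exact hu ((hmem u).2 hux)
    · rw [hspan]
      obtain ⟨⟨a, s⟩, rfl⟩ := IsLocalization.mk'_surjective P.primeCompl r
      have ha := (IsLocalization.AtPrime.mk'_mem_maximal_iff L P a s).1 hr
      rw [smul_eq_mul, mul_comm, IsLocalization.mul_mk'_eq_mk'_of_mul, IsLocalization.mk'_mem_map_algebraMap_iff]
      exact ⟨1, Submonoid.one_mem _, by rw [one_mul, mul_comm]; exact (hmem a).1 ha⟩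
  have h1 := hcm.supportDim_eq_depth
  rw [Module.supportDim_self_eq_ringKrullDim, IsLocalization.AtPrime.ringKrullDim_eq_height P, WithBot.coe_inj,
    LocCoh.depth, Depth.idealDepth_eq_length hm hmax] at h1
  simpa using h1

theorem height_add_one_of_ass {K : Type u} [Field K] {n : ℕ} {J : Ideal (MvPolynomial (Fin (n + 1)) K)}
    (hJ : J.IsHomogeneous (GrSyz.stdGr K (Fin (n + 1)))) [LocCoh.IsCohenMacaulayRing (MvPolynomial (Fin (n + 1)) K ⧸ J)]
    {f : MvPolynomial (Fin (n + 1)) K} (hf : J.colon {f} = J) {P : Ideal (MvPolynomial (Fin (n + 1)) K)}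
    (hP : P ∈ associatedPrimes (MvPolynomial (Fin (n + 1)) K) (MvPolynomial (Fin (n + 1)) K ⧸ (J ⊔ Ideal.span {f}))) :
    P.height = J.height + 1 := by
  let R := MvPolynomial (Fin (n + 1)) K
  let A := R ⧸ J
  let π := Ideal.Quotient.mk J
  have hJP : J ≤ P := le_sup_left.trans (le_of_mem_ass hP)
  obtain ⟨hPp, x, hx⟩ := isAssociatedPrime_iff.1 hP
  haveI := hPp
  obtain ⟨x, rfl⟩ := Ideal.Quotient.mk_surjective x
  haveI hP' : (P.map π).IsPrime :=
    Ideal.map_isPrime_of_surjective Ideal.Quotient.mk_surjective (by rw [Ideal.mk_ker]; exact hJP)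
  have hass : P.map π ∈ associatedPrimes A (A ⧸ Ideal.span {π f}) := by
    refine isAssociatedPrime_iff.2 ⟨hP', Ideal.Quotient.mk _ (π x), Ideal.ext fun z => ?_⟩
    obtain ⟨r, rfl⟩ := Ideal.Quotient.mk_surjective z
    rw [← Ideal.mem_comap, Ideal.comap_map_mk hJP, hx, Submodule.mem_colon_singleton, Submodule.mem_colon_singleton,
      Submodule.mem_bot, Submodule.mem_bot]
    refine Ideal.Quotient.eq_zero_iff_mem.trans (Iff.trans ?_ Ideal.Quotient.eq_zero_iff_mem.symm)
    show r * x ∈ _ ↔ π r * π x ∈ Ideal.span {π f}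
    rw [← map_mul, ← Ideal.mem_comap, ← Set.image_singleton, ← Ideal.map_span,
      Ideal.comap_map_of_surjective _ Ideal.Quotient.mk_surjective, ← RingHom.ker_eq_comap_bot, Ideal.mk_ker,
      sup_comm]
  have h1 := height_eq_one_of_ass (f := π f) (fun a ha => by
    obtain ⟨a, rfl⟩ := Ideal.Quotient.mk_surjective a
    rw [← map_mul, Ideal.Quotient.eq_zero_iff_mem] at ha
    rw [Ideal.Quotient.eq_zero_iff_mem, ← hf, Submodule.mem_colon_singleton, smul_eq_mul, mul_comm]
    exact ha) hass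
  obtain ⟨Q, hQ, hQP⟩ := Ideal.exists_minimalPrimes_le hJP
  haveI := hQ.1.1
  haveI hQ' : (Q.map π).IsPrime :=
    Ideal.map_isPrime_of_surjective Ideal.Quotient.mk_surjective (by rw [Ideal.mk_ker]; exact hQ.1.2)
  have h2 := height_comap_add J (x := ⟨Q.map π, hQ'⟩) (y := ⟨P.map π, hP'⟩) (Ideal.map_mono hQP)
  have h0 : (Q.map π).height = 0 := by
    refine Ideal.height_eq_zero_iff.2 ⟨⟨hQ', bot_le⟩, fun q hq hle => ?_⟩
    haveI := hq.1
    have h3 : J ≤ q.comap π := fun r hr => by
      rw [Ideal.mem_comap, Ideal.Quotient.eq_zero_iff_mem.2 hr]; exact zero_mem _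
    have h4 := hQ.2 ⟨inferInstance, h3⟩ ((Ideal.comap_mono hle).trans (Ideal.comap_map_mk hQ.1.2).le)
    exact (Ideal.map_mono h4).trans Ideal.map_comap_le
  rw [h0, add_zero, h1, show (PrimeSpectrum.mk (P.map π) hP').asIdeal.comap π = P from Ideal.comap_map_mk hJP,
    show (PrimeSpectrum.mk (Q.map π) hQ').asIdeal.comap π = Q from Ideal.comap_map_mk hQ.1.2,
    height_associated hJ (ass_of_minimal hQ)] at h2
  exact h2

section Exact

variable {R : Type u} [CommRing R] {J I : Ideal R} {f : R}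

theorem le_comap_mul : I ≤ Submodule.comap (LinearMap.mulLeft R f) (J ⊔ Ideal.span {f} * I) := fun _ hi =>
  Submodule.mem_sup_right (Ideal.mul_mem_mul (Ideal.mem_span_singleton_self f) hi)

theorem le_sup_span : J ⊔ Ideal.span {f} * I ≤ Submodule.comap (LinearMap.id : R →ₗ[R] R) (J ⊔ Ideal.span {f}) :=
  sup_le_sup le_rfl Ideal.mul_le_left

theorem injective_mapQ (hJI : J ≤ I) (hf : J.colon {f} = J) :
    Function.Injective (Submodule.mapQ I (J ⊔ Ideal.span {f} * I) (LinearMap.mulLeft R f) le_comap_mul) := by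
  rw [← LinearMap.ker_eq_bot, Submodule.ker_mapQ, Submodule.eq_bot_iff]
  rintro _ ⟨r, hr, rfl⟩
  obtain ⟨j, hj, b, hb, hjb⟩ := Submodule.mem_sup.1 hr
  obtain ⟨i, hi, rfl⟩ := Ideal.mem_span_singleton_mul.1 hb
  refine (Submodule.Quotient.mk_eq_zero _).2 ?_
  rw [← sub_add_cancel r i]
  refine I.add_mem (hJI ?_) hi
  rw [← hf, Submodule.mem_colon_singleton, smul_eq_mul, mul_comm, mul_sub,
    show f * r = j + f * i from hjb.symm, add_sub_cancel_right]
  exact hj

theorem exact_mapQ : Function.Exact (Submodule.mapQ I (J ⊔ Ideal.span {f} * I) (LinearMap.mulLeft R f) le_comap_mul)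
    (Submodule.mapQ (J ⊔ Ideal.span {f} * I) (J ⊔ Ideal.span {f}) LinearMap.id le_sup_span) := by
  intro z
  obtain ⟨r, rfl⟩ := Submodule.Quotient.mk_surjective _ z
  rw [Submodule.mapQ_apply, Submodule.Quotient.mk_eq_zero]
  refine ⟨fun hr => ?_, ?_⟩
  · obtain ⟨j, hj, b, hb, rfl⟩ := Submodule.mem_sup.1 (show r ∈ J ⊔ Ideal.span {f} from hr)
    obtain ⟨a, rfl⟩ := Ideal.mem_span_singleton'.1 hb
    refine ⟨Submodule.Quotient.mk a, ?_⟩
    rw [Submodule.mapQ_apply, Submodule.Quotient.eq, LinearMap.mulLeft_apply,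
      show f * a - (j + a * f) = -j by ring]
    exact Submodule.mem_sup_left (neg_mem hj)
  · rintro ⟨w, hw⟩
    obtain ⟨a, rfl⟩ := Submodule.Quotient.mk_surjective _ w
    rw [Submodule.mapQ_apply, Submodule.Quotient.eq, LinearMap.mulLeft_apply] at hw
    have h1 : f * a - (f * a - r) ∈ J ⊔ Ideal.span {f} :=
      sub_mem (Submodule.mem_sup_right (Ideal.mul_mem_right a _ (Ideal.mem_span_singleton_self f))) (le_sup_span hw)
    rwa [sub_sub_cancel] at h1

theorem ass_double_subset (hJI : J ≤ I) (hf : J.colon {f} = J) :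
    associatedPrimes R (R ⧸ I) ⊆ associatedPrimes R (R ⧸ (J ⊔ Ideal.span {f} * I)) ∧
      associatedPrimes R (R ⧸ (J ⊔ Ideal.span {f} * I)) ⊆
        associatedPrimes R (R ⧸ I) ∪ associatedPrimes R (R ⧸ (J ⊔ Ideal.span {f})) :=
  ⟨associatedPrimes.subset_of_injective (injective_mapQ hJI hf),
    associatedPrimes.subset_union_of_exact (injective_mapQ hJI hf) exact_mapQ⟩

end Exact

end Groth.Agent.LiaisonLib
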