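import Groth.Agent.LiaisonLib.Colon
import Groth.Agent.GorInvLib.Gorenstein
import Groth.Agent.Comodule.InvSk
import Groth.Agent.CMFlatLib.BaseChangeAlg
import Groth.Agent.S2217

/-!
# Duality over a Noether normalization and linkage
-/

set_option autoImplicit false
set_option backward.isDefEq.respectTransparency false
universe u

open TensorProduct IsLocalRing

noncomputable section

namespace Groth.Agent.LiaisonLib

/-- Miracle flatness, globally, for Cohen–Macaulay algebras. -/
theorem flat_of_height_eq_cm (P R : Type u) [CommRing P] [IsRegularRing P] [CommRing R] [LocCoh.IsCohenMacaulayRing R] [Algebra P R]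
    [Module.Finite P R] (hh : ∀ M : Ideal R, M.IsMaximal → M.height = (M.comap (algebraMap P R)).height) :
    Module.Flat P R := by
  refine Module.flat_of_isLocalized_maximal R R
    (fun M _ => Localization.AtPrime M) (fun M _ => Algebra.linearMap R (Localization.AtPrime M))
    fun M hM => ?_
  let q := M.comap (algebraMap P R)
  haveI : q.IsMaximal := Ideal.isMaximal_comap_of_isIntegral_of_isMaximal (R := P) M
  letI := (Localization.localRingHom q M (algebraMap P R) rfl).toAlgebra
  haveI : IsScalarTower P (Localization.AtPrime q) (Localization.AtPrime M) :=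
    IsScalarTower.of_algebraMap_eq fun y => by
      rw [RingHom.algebraMap_toAlgebra, Localization.localRingHom_to_map, ← IsScalarTower.algebraMap_apply]
  rw [← Module.flat_iff_of_isLocalization (Localization.AtPrime q) q.primeCompl]
  haveI : IsRegularLocalRing (Localization.AtPrime q) := IsRegularRing.isRegularLocalRing_localization q
  haveI : LocCoh.IsCohenMacaulayLocalRing (Localization.AtPrime M) :=
    LocCoh.IsCohenMacaulayRing.isCohenMacaulayLocalRing_localization M
  refine CMFlatLib.flat_of_cm _ _ ?_ ?_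
  · refine le_antisymm ?_ ?_
    · refine (Ideal.IsPrime.radical_le_iff inferInstance).2 (Ideal.map_le_iff_le_comap.2 ?_)
      haveI : IsLocalHom (algebraMap (Localization.AtPrime q) (Localization.AtPrime M)) := by
        rw [RingHom.algebraMap_toAlgebra]; infer_instance
      exact ((IsLocalRing.local_hom_TFAE _).out 0 3 rfl rfl).1 inferInstance
    · rw [Ideal.radical_eq_sInf]
      refine le_sInf ?_
      rintro J ⟨hP, hPp⟩
      haveI := hPp
      have h1 : (J.under R).IsMaximal := by
        refine Ideal.isMaximal_of_isIntegral_of_isMaximal_comap (R := P) _ ?_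
        have hq : q ≤ (J.under R).comap
            (algebraMap P R) := fun y hy => by
          have := hP (Ideal.mem_map_of_mem _ ((IsLocalization.AtPrime.to_map_mem_maximal_iff
            (Localization.AtPrime q) q y).2 hy))
          rwa [← IsScalarTower.algebraMap_apply, IsScalarTower.algebraMap_apply P
            R (Localization.AtPrime M)] at this
        have hmax : q.IsMaximal := inferInstance
        rw [← hmax.eq_of_le (Ideal.IsPrime.comap _).ne_top hq]
        exact hmax
      have h2 : J.under R = M := h1.eq_of_le hM.ne_top (by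
        intro y hy
        rw [← IsLocalization.AtPrime.to_map_mem_maximal_iff (Localization.AtPrime M) M]
        exact IsLocalRing.le_maximalIdeal hPp.ne_top hy)
      intro y hy
      obtain ⟨⟨r, m⟩, rfl⟩ := IsLocalization.mk'_surjective M.primeCompl y
      have hr : r ∈ J.under R :=
        h2.symm ▸ (IsLocalization.AtPrime.mk'_mem_maximal_iff (Localization.AtPrime M) M r m).1 hy
      exact IsLocalization.mk'_mem_iff.2 hr
  · rw [IsLocalization.AtPrime.ringKrullDim_eq_height M, IsLocalization.AtPrime.ringKrullDim_eq_height q, hh M hM]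

/-- A finite projective algebra over a regular ring is Cohen–Macaulay. -/
theorem cm_of_projective (P C : Type u) [CommRing P] [IsRegularRing P] [CommRing C] [Algebra P C]
    [Module.Finite P C] [Module.Projective P C] : LocCoh.IsCohenMacaulayRing C := by
  haveI : IsNoetherianRing C := IsNoetherianRing.of_finite P C
  refine { isCohenMacaulayLocalRing_localization := fun r _ => ?_ }
  let Q := PrimeSpectrum.primesOverOrderIsoFiber P C (r.under P) ⟨r, ⟨inferInstance, ⟨rfl⟩⟩⟩
  have hQ : r = Q.asIdeal.comap Algebra.TensorProduct.includeRight := by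
    have := PrimeSpectrum.coe_primesOverOrderIsoFiber_symm_apply (R := P) (S := C) (r.under P) Q
    rw [OrderIso.symm_apply_apply] at this
    exact this
  haveI : IsRegularLocalRing (Localization.AtPrime (r.under P)) := IsRegularRing.isRegularLocalRing_localization _
  haveI : IsArtinianRing ((r.under P).Fiber C) := IsArtinianRing.of_finite (r.under P).ResidueField _
  refine (CMFlatLib.cm_fiber_iff (r.under P) Q.asIdeal r hQ).2
    ⟨GorLib.isCohenMacaulay _ (GorLib.gorensteinLocal_of_regular _), CMFlatLib.cm_of_artinian _⟩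

section Omega

variable {P A : Type u} [CommRing P] [CommRing A] [Algebra P A] [Module.Finite P A] [Module.Projective P A]

theorem exists_dualBasis : ∃ (m : ℕ) (ε : Fin m → (A →ₗ[P] P)) (e : Fin m → A), ∀ x, x = ∑ i, ε i x • e i := by
  obtain ⟨m, π, hπ⟩ := Module.Finite.exists_fin' P A
  obtain ⟨h, hh⟩ := Module.projective_lifting_property π LinearMap.id hπ
  refine ⟨m, fun i => LinearMap.proj i ∘ₗ h, fun i => π (Pi.single i 1), fun x => ?_⟩
  conv_lhs => rw [show x = π (h x) from (LinearMap.congr_fun hh x).symm, pi_eq_sum_univ' (h x), map_sum]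
  exact Finset.sum_congr rfl fun i _ => map_smul _ _ _

theorem eq_zero_of_smul_omega {c : A} (h : ∀ l : Disc.Omega P A, c • l = 0) : c = 0 := by
  obtain ⟨m, ε, e, he⟩ := exists_dualBasis (P := P) (A := A)
  rw [he c]
  refine Finset.sum_eq_zero fun i _ => ?_
  have h1 := congrArg (fun l : Disc.Omega P A => l.toLinearMap 1) (h ⟨ε i⟩)
  simp only [Disc.Omega.smul_toLinearMap_apply, mul_one, Disc.Omega.zero_toLinearMap, LinearMap.zero_apply] at h1
  rw [h1, zero_smul]

/-- Gorenstein fibres make the dualizing module invertible. -/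
theorem invertible_omega [IsNoetherianRing P] [IsNoetherianRing A] [LocCoh.IsGorensteinRing A] :
    Module.Invertible A (Disc.Omega P A) := by
  classical
  obtain ⟨m, ε, e, he⟩ := exists_dualBasis (P := P) (A := A)
  have hexp : ∀ l : Disc.Omega P A, l = ∑ i, (algebraMap P A (l.toLinearMap (e i))) • (⟨ε i⟩ : Disc.Omega P A) := by
    intro l
    refine Disc.Omega.ext (LinearMap.ext fun x => ?_)
    let ev : Disc.Omega P A →+ P := AddMonoidHom.mk' (fun m => m.toLinearMap x) fun a b => rfl
    show l.toLinearMap x = ev _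
    rw [map_sum]
    conv_lhs => rw [he x, map_sum]
    refine Finset.sum_congr rfl fun i _ => ?_
    show l.toLinearMap (ε i x • e i) = ((algebraMap P A (l.toLinearMap (e i))) • (⟨ε i⟩ : Disc.Omega P A)).toLinearMap x
    rw [Disc.Omega.smul_toLinearMap_apply, map_smul, ← Algebra.smul_def, map_smul, smul_eq_mul, smul_eq_mul, mul_comm]
  haveI : Module.Finite A (Disc.Omega P A) := ⟨⟨Finset.univ.image fun i => ⟨ε i⟩, by
    classical
    rw [eq_top_iff]
    intro l _
    rw [hexp l]
    exact sum_mem fun i _ => Submodule.smul_mem _ _ (Submodule.subset_span (Finset.mem_coe.2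
      (Finset.mem_image_of_mem _ (Finset.mem_univ i))))⟩⟩
  refine S2217.invertible_of_cover fun M hM => ?_
  let p := M.comap (algebraMap P A)
  haveI hp : p.IsMaximal := Ideal.isMaximal_comap_of_isIntegral_of_isMaximal (R := P) M
  let F := p.Fiber A
  haveI : IsNoetherianRing F := IsNoetherianRing.of_finite p.ResidueField F
  have hG : LocCoh.IsGorensteinRing F := { isGorensteinLocalRing_localization := fun q _ =>
    ((GorLib.gorenstein_fiber_iff p q _ rfl).1
      (LocCoh.IsGorensteinRing.isGorensteinLocalRing_localization _)).2 }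
  obtain ⟨τ, hτ⟩ := S2217.exists_nondegenerate p.ResidueField F hG
  let L : F →ₗ[p.ResidueField] Module.Dual p.ResidueField F := (LinearMap.mul p.ResidueField F).compr₂ τ
  have hL : Function.Surjective L :=
    (LinearMap.injective_iff_surjective_of_finrank_eq_finrank Subspace.dual_finrank_eq.symm).1
      ((injective_iff_map_eq_zero L).2 fun x hx => hτ x fun y => LinearMap.congr_fun hx y)
  have hκ : Function.Surjective (algebraMap P p.ResidueField) := Ideal.algebraMap_residueField_surjective p
  let red : Disc.Omega P A → (F →ₗ[p.ResidueField] p.ResidueField) := fun l =>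
    (AlgebraTensorModule.rid P p.ResidueField p.ResidueField).toLinearMap ∘ₗ l.toLinearMap.baseChange p.ResidueField
  have hred : ∀ l (k : p.ResidueField) (s : A), red l (k ⊗ₜ[P] s) = l.toLinearMap s • k := fun l k s => by
    show AlgebraTensorModule.rid P p.ResidueField p.ResidueField (l.toLinearMap.baseChange p.ResidueField (k ⊗ₜ[P] s)) = _
    rw [LinearMap.baseChange_tmul, AlgebraTensorModule.rid_tmul]
  have hsurjA : ∀ z : F, ∃ a : A, (1 : p.ResidueField) ⊗ₜ[P] a = z := fun z => by
    induction z using TensorProduct.induction_on with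
    | zero => exact ⟨0, tmul_zero _ _⟩
    | add x y hx hy =>
      obtain ⟨a, rfl⟩ := hx
      obtain ⟨b, rfl⟩ := hy
      exact ⟨a + b, tmul_add _ _ _⟩
    | tmul k b =>
      obtain ⟨a, rfl⟩ := hκ k
      exact ⟨a • b, by rw [tmul_smul, smul_tmul', Algebra.smul_def, mul_one]⟩
  obtain ⟨t, ht⟩ : ∃ t : Disc.Omega P A, red t = τ := by
    choose a ha using fun i => hκ (τ (1 ⊗ₜ[P] e i))
    refine ⟨⟨∑ i, a i • ε i⟩, TensorProduct.AlgebraTensorModule.ext fun k s => ?_⟩
    rw [hred, show k ⊗ₜ[P] s = k • ((1 : p.ResidueField) ⊗ₜ[P] s) by rw [smul_tmul', smul_eq_mul, mul_one], map_smul,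
      LinearMap.sum_apply, Finset.sum_smul]
    conv_rhs => rw [he s, tmul_sum, map_sum, Finset.smul_sum]
    refine Finset.sum_congr rfl fun i _ => ?_
    rw [LinearMap.smul_apply, smul_eq_mul, tmul_smul, LinearMap.map_smul_of_tower, ← ha i]
    simp only [Algebra.smul_def, smul_eq_mul, map_mul, Algebra.algebraMap_self, RingHom.id_apply]
    ring
  have htop : (⊤ : Submodule A (Disc.Omega P A)) ≤ (A ∙ t) ⊔ M • ⊤ := by
    intro l _
    obtain ⟨c, hc⟩ := hL (red l)
    obtain ⟨a, rfl⟩ := hsurjA c
    refine Submodule.mem_sup.2 ⟨a • t, Submodule.smul_mem _ _ (Submodule.mem_span_singleton_self t), l - a • t, ?_,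
      add_sub_cancel _ _⟩
    rw [hexp (l - a • t)]
    refine sum_mem fun i _ => Submodule.smul_mem_smul ?_ Submodule.mem_top
    have h1 := LinearMap.congr_fun hc ((1 : p.ResidueField) ⊗ₜ[P] e i)
    change τ (((1 : p.ResidueField) ⊗ₜ[P] a) * (1 ⊗ₜ[P] e i)) = _ at h1
    rw [Algebra.TensorProduct.tmul_mul_tmul, one_mul, ← ht, hred, hred, Algebra.smul_def, Algebra.smul_def, mul_one,
      mul_one] at h1
    have h3 : (l - a • t).toLinearMap (e i) = l.toLinearMap (e i) - t.toLinearMap (a * e i) := by
      show l.toLinearMap (e i) - (a • t).toLinearMap (e i) = _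
      rw [Disc.Omega.smul_toLinearMap_apply]
    show _ ∈ p
    rw [h3, ← Ideal.ker_algebraMap_residueField p, RingHom.mem_ker, map_sub, h1, sub_self]
  let π := (A ∙ t).mkQ
  have hN : (⊤ : Submodule A (Disc.Omega P A ⧸ (A ∙ t))) ≤ M • ⊤ := by
    have h2 := Submodule.map_mono (f := π) htop
    rwa [Submodule.map_sup, Submodule.map_smul'', Submodule.map_top, Submodule.range_mkQ,
      Submodule.mkQ_map_self, bot_sup_eq] at h2
  obtain ⟨s, hs1, hs⟩ := Submodule.exists_sub_one_mem_and_smul_eq_zero_of_fg_of_le_smul M _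
    Module.Finite.fg_top hN
  have hsl : ∀ l, ∃ c : A, s • l = c • t := fun l => by
    have h2 := hs (π l) Submodule.mem_top
    rw [← map_smul] at h2
    obtain ⟨c, hc⟩ := Submodule.mem_span_singleton.1 ((Submodule.Quotient.mk_eq_zero _).1 h2)
    exact ⟨c, hc.symm⟩
  refine ⟨t, s, fun hsM => hM.ne_top ((Ideal.eq_top_iff_one M).2 ?_), hsl, fun b hb => ?_⟩
  · simpa using M.sub_mem hsM hs1
  · refine eq_zero_of_smul_omega (P := P) fun l => ?_
    obtain ⟨c, hc⟩ := hsl l
    rw [mul_comm, mul_smul, hc, smul_comm, hb, smul_zero]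

section Ann

variable (i : Ideal A)

/-- Restriction of the translates of a functional. -/
def restrictMap (φ : Disc.Omega P A) : A →ₗ[P] (i.restrictScalars P →ₗ[P] P) :=
  LinearMap.mk₂ P (fun a x => φ.toLinearMap (a * (x : A)))
    (fun a b x => by rw [add_mul, map_add]) (fun q a x => by rw [smul_mul_assoc, map_smul])
    (fun a x y => by rw [Submodule.coe_add, mul_add, map_add])
    (fun q a x => by rw [Submodule.coe_smul, mul_smul_comm, map_smul])

omit [Module.Finite P A] [Module.Projective P A] in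
theorem restrictMap_apply (φ : Disc.Omega P A) (a : A) (x : i.restrictScalars P) :
    restrictMap i φ a x = φ.toLinearMap (a * (x : A)) := rfl

omit [Module.Finite P A] [Module.Projective P A] in
theorem exists_extendMap (Φ : Disc.Omega P A →ₗ[A] A) (r : A →ₗ[P] i.restrictScalars P) :
    ∃ g : (i.restrictScalars P →ₗ[P] P) →ₗ[P] A, ∀ ψ, g ψ = Φ ⟨ψ ∘ₗ r⟩ := by
  refine ⟨{ toFun := fun ψ => Φ ⟨ψ ∘ₗ r⟩, map_add' := ?_, map_smul' := ?_ }, fun _ => rfl⟩
  · intro ψ ψ'
    rw [← map_add]
    exact congrArg Φ (Disc.Omega.ext (LinearMap.add_comp ..))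
  · intro q ψ
    rw [RingHom.id_apply, Algebra.smul_def, ← smul_eq_mul, ← map_smul]
    refine congrArg Φ (Disc.Omega.ext (LinearMap.ext fun x => ?_))
    rw [Disc.Omega.smul_toLinearMap_apply, ← Algebra.smul_def, map_smul]
    rfl

/-- If `A/𝔦` is projective over the base, so is `A/ann 𝔦`. -/
theorem projective_quot_ann [Module.Invertible A (Disc.Omega P A)] (j : Ideal A)
    (hj : ∀ a, a ∈ j ↔ ∀ x ∈ i, a * x = 0) [Module.Projective P (A ⧸ i)] : Module.Projective P (A ⧸ j) := by
  classical
  obtain ⟨ξ, hξ⟩ : ∃ ξ, contractLeft A (Disc.Omega P A) ξ = 1 :=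
    Module.Invertible.bijective.2 1
  obtain ⟨S, rfl⟩ := TensorProduct.exists_finset ξ
  rw [map_sum] at hξ
  simp only [contractLeft_apply] at hξ
  obtain ⟨σ, hσ⟩ := Module.projective_lifting_property (Ideal.Quotient.mkₐ P i).toLinearMap LinearMap.id
    Ideal.Quotient.mk_surjective
  let r : A →ₗ[P] i.restrictScalars P :=
    (LinearMap.id - σ ∘ₗ (Ideal.Quotient.mkₐ P i).toLinearMap).codRestrict _ fun x => by
      show x - σ (Ideal.Quotient.mk i x) ∈ i
      rw [← Ideal.Quotient.eq_zero_iff_mem, map_sub]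
      exact sub_eq_zero.2 (LinearMap.congr_fun hσ (Ideal.Quotient.mk i x)).symm
  have hr : ∀ x (hx : x ∈ i), (r x : A) = x := fun x hx => by
    show x - σ (Ideal.Quotient.mk i x) = x
    rw [Ideal.Quotient.eq_zero_iff_mem.2 hx, map_zero, sub_zero]
  haveI : Module.Projective P (i.restrictScalars P) :=
    Module.Projective.of_split (i.restrictScalars P).subtype r (LinearMap.ext fun x => Subtype.ext (hr _ x.2))
  haveI : Module.Finite P (i.restrictScalars P) :=
    Module.Finite.of_surjective r fun x => ⟨x, Subtype.ext (hr _ x.2)⟩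
  choose g hg using fun k : {x // x ∈ S} => exists_extendMap i k.1.1 r
  let Ψ : (A ⧸ j) →ₗ[P] ({x // x ∈ S} → (i.restrictScalars P →ₗ[P] P)) :=
    (j.restrictScalars P).liftQ (LinearMap.pi fun k => restrictMap i k.1.2) fun a ha =>
      LinearMap.mem_ker.2 (funext fun k => LinearMap.ext fun x => by
        rw [LinearMap.pi_apply, restrictMap_apply, (hj a).1 ha _ x.2, map_zero]; rfl)
  let G : ({x // x ∈ S} → (i.restrictScalars P →ₗ[P] P)) →ₗ[P] A ⧸ j :=
    (Ideal.Quotient.mkₐ P j).toLinearMap ∘ₗ LinearMap.lsum P (fun _ => (i.restrictScalars P →ₗ[P] P)) P g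
  haveI hpd : Module.Projective P (i.restrictScalars P →ₗ[P] P) := inferInstance
  haveI hpp : Module.Projective P ({x // x ∈ S} → (i.restrictScalars P →ₗ[P] P)) :=
    Module.Projective.of_equiv' (DFinsupp.linearEquivFunOnFintype (R := P) (M := fun _ : {x // x ∈ S} => (i.restrictScalars P →ₗ[P] P)))
  refine @Module.Projective.of_split P _ _ _ _ _ _ _ hpp Ψ G (LinearMap.ext fun z => ?_)
  obtain ⟨a, rfl⟩ := Ideal.Quotient.mk_surjective z
  show Ideal.Quotient.mk j (LinearMap.lsum P (fun _ => (i.restrictScalars P →ₗ[P] P)) P g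
    (fun k => restrictMap i k.1.2 a)) = Ideal.Quotient.mk j a
  rw [LinearMap.lsum_apply, LinearMap.sum_apply, Finset.univ_eq_attach]
  conv_rhs => rw [← mul_one a, ← hξ, Finset.mul_sum, map_sum, ← Finset.sum_attach]
  rw [map_sum]
  refine Finset.sum_congr rfl fun k _ => ?_
  rw [LinearMap.comp_apply, LinearMap.proj_apply, hg, ← smul_eq_mul, ← map_smul, Ideal.Quotient.eq, ← map_sub, hj]
  intro x hx
  rw [mul_comm, ← smul_eq_mul, ← map_smul]
  convert map_zero k.1.1
  refine Disc.Omega.ext (LinearMap.ext fun y => ?_)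
  rw [Disc.Omega.smul_toLinearMap_apply]
  show restrictMap i k.1.2 a (r (x * y)) - (a • k.1.2).toLinearMap (x * y) = 0
  rw [Disc.Omega.smul_toLinearMap_apply, restrictMap_apply, hr _ (i.mul_mem_right y hx), sub_self]

end Ann

end Omega

section Normalization

variable {K : Type u} [Field K] {n : ℕ}

local notation "Pol" => MvPolynomial (Fin (n + 1)) K

theorem height_maximal {I : Ideal Pol} (hI : I.IsHomogeneous (GrSyz.stdGr K (Fin (n + 1))))
    [LocCoh.IsCohenMacaulayRing (Pol ⧸ I)] (M : Ideal (Pol ⧸ I)) [M.IsMaximal] :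
    M.height + I.height = ((n + 1 : ℕ) : ℕ∞) := by
  let π := Ideal.Quotient.mk I
  haveI hM' : (M.comap π).IsMaximal := Ideal.comap_isMaximal_of_surjective π Ideal.Quotient.mk_surjective
  have hIM : I ≤ M.comap π := fun r hr => by
    rw [Ideal.mem_comap, Ideal.Quotient.eq_zero_iff_mem.2 hr]; exact zero_mem _
  obtain ⟨Q, hQ, hQM⟩ := Ideal.exists_minimalPrimes_le hIM
  haveI := hQ.1.1
  haveI hQ' : (Q.map π).IsPrime :=
    Ideal.map_isPrime_of_surjective Ideal.Quotient.mk_surjective (by rw [Ideal.mk_ker]; exact hQ.1.2)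
  have h2 := height_comap_add I (x := ⟨Q.map π, hQ'⟩) (y := ⟨M, inferInstance⟩)
    ((Ideal.map_mono hQM).trans Ideal.map_comap_le)
  have h0 : (Q.map π).height = 0 := by
    refine Ideal.height_eq_zero_iff.2 ⟨⟨hQ', bot_le⟩, fun q hq hle => ?_⟩
    haveI := hq.1
    have h3 : I ≤ q.comap π := fun r hr => by
      rw [Ideal.mem_comap, Ideal.Quotient.eq_zero_iff_mem.2 hr]; exact zero_mem _
    have h4 := hQ.2 ⟨inferInstance, h3⟩ ((Ideal.comap_mono hle).trans (Ideal.comap_map_mk hQ.1.2).le)
    exact (Ideal.map_mono h4).trans Ideal.map_comap_le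
  rw [h0, add_zero, RegLocLib.height_eq_of_isMaximal_mvPolynomial K (n + 1) (M.comap π) inferInstance,
    show (PrimeSpectrum.mk (Q.map π) hQ').asIdeal.comap π = Q from Ideal.comap_map_mk hQ.1.2,
    height_associated hI (ass_of_minimal hQ)] at h2
  rw [add_comm]
  exact h2.symm

theorem height_le_comap {P A : Type u} [CommRing P] [CommRing A] [Algebra P A] [Algebra.IsIntegral P A]
    (q : Ideal A) [q.IsPrime] : q.height ≤ (q.comap (algebraMap P A)).height := by
  change (⟨q, inferInstance⟩ : PrimeSpectrum A).asIdeal.height ≤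
    (PrimeSpectrum.comap (algebraMap P A) ⟨q, inferInstance⟩).asIdeal.height
  rw [PrimeSpectrum.height_eq_orderHeight, PrimeSpectrum.height_eq_orderHeight]
  refine Order.height_le_height_apply_of_strictMono
    (PrimeSpectrum.comap (algebraMap P A)) (fun a b hab => ?_) (⟨q, inferInstance⟩ : PrimeSpectrum A)
  obtain ⟨r, hrb, hra⟩ := SetLike.exists_of_lt (show a.asIdeal < b.asIdeal from hab)
  exact Ideal.comap_lt_comap_of_integral_mem_sdiff (show a.asIdeal ≤ b.asIdeal from hab.le) ⟨hrb, hra⟩
    (Algebra.IsIntegral.isIntegral r)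

theorem exists_maximal_height {k : Type u} [Field k] {s : ℕ} {A : Type u} [CommRing A]
    [Algebra (MvPolynomial (Fin s) k) A] [Module.Finite (MvPolynomial (Fin s) k) A]
    (hinj : Function.Injective (algebraMap (MvPolynomial (Fin s) k) A)) :
    ∃ q : Ideal A, q.IsMaximal ∧ q.height = s := by
  obtain ⟨m, hm⟩ := Ideal.exists_maximal (MvPolynomial (Fin s) k)
  haveI := hm
  obtain ⟨q, hq, hqm, hqh⟩ := Comodule.InvSk.exists_height_le (R := A) hinj m s
    (RegLocLib.height_eq_of_isMaximal_mvPolynomial k s m hm).ge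
  haveI := hq
  refine ⟨q, Ideal.isMaximal_of_isIntegral_of_isMaximal_comap (R := MvPolynomial (Fin s) k) q
      (by rw [show q.comap (algebraMap _ _) = m from hqm]; exact hm), le_antisymm ?_ hqh⟩
  refine (height_le_comap (P := MvPolynomial (Fin s) k) q).trans ?_
  rw [show q.comap (algebraMap _ _) = m from hqm, RegLocLib.height_eq_of_isMaximal_mvPolynomial k s m hm]

theorem projective_of_heights {k : Type u} [Field k] {s : ℕ} (B : Type u) [CommRing B]
    [Algebra (MvPolynomial (Fin s) k) B] [Module.Finite (MvPolynomial (Fin s) k) B]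
    [LocCoh.IsCohenMacaulayRing B] (hB : ∀ M : Ideal B, M.IsMaximal → M.height = s) :
    Module.Projective (MvPolynomial (Fin s) k) B := by
  haveI : Module.Flat (MvPolynomial (Fin s) k) B := flat_of_height_eq_cm _ _ fun M hM => by
    haveI := hM
    rw [hB M hM, RegLocLib.height_eq_of_isMaximal_mvPolynomial k s _
      (Ideal.isMaximal_comap_of_isIntegral_of_isMaximal (R := MvPolynomial (Fin s) k) M)]
  haveI : Module.FinitePresentation (MvPolynomial (Fin s) k) B := Module.finitePresentation_of_finite _ _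
  exact Module.Flat.projective_of_finitePresentation

end Normalization

/-- In an equidimensional affine Gorenstein algebra the annihilator of a Cohen–Macaulay
equidimensional ideal cuts out a Cohen–Macaulay ring. -/
theorem cm_quot_ann {k : Type u} [Field k] {A : Type u} [CommRing A] [Algebra k A] [Algebra.FiniteType k A]
    [LocCoh.IsGorensteinRing A] (h : ℕ∞) (hA : ∀ M : Ideal A, M.IsMaximal → M.height = h)
    (i j : Ideal A) (hj : ∀ a, a ∈ j ↔ ∀ x ∈ i, a * x = 0) [LocCoh.IsCohenMacaulayRing (A ⧸ i)]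
    (hi : ∀ M : Ideal (A ⧸ i), M.IsMaximal → M.height = h) : LocCoh.IsCohenMacaulayRing (A ⧸ j) := by
  haveI : IsNoetherianRing A := Algebra.FiniteType.isNoetherianRing k A
  rcases subsingleton_or_nontrivial A with hs | hn
  · haveI : Subsingleton (A ⧸ j) := Ideal.Quotient.mk_surjective.subsingleton
    exact { isCohenMacaulayLocalRing_localization := fun p hp => absurd (Subsingleton.elim p ⊤) hp.ne_top }
  haveI : LocCoh.IsCohenMacaulayRing A := cm_of_gorenstein
  obtain ⟨s, g, hinj, hfin⟩ := exists_finite_inj_algHom_of_fg k A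
  letI : Algebra (MvPolynomial (Fin s) k) A := g.toRingHom.toAlgebra
  haveI : Module.Finite (MvPolynomial (Fin s) k) A := hfin
  obtain ⟨q, hqmax, hqh⟩ := exists_maximal_height (A := A) hinj
  have hhs : h = s := (hA q hqmax).symm.trans hqh
  haveI : Module.Projective (MvPolynomial (Fin s) k) A := projective_of_heights A fun M hM => (hA M hM).trans hhs
  haveI : Module.Projective (MvPolynomial (Fin s) k) (A ⧸ i) :=
    projective_of_heights (A ⧸ i) fun M hM => (hi M hM).trans hhs
  haveI : Module.Invertible A (Disc.Omega (MvPolynomial (Fin s) k) A) := invertible_omega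
  haveI := projective_quot_ann (P := MvPolynomial (Fin s) k) i j hj
  exact cm_of_projective (MvPolynomial (Fin s) k) (A ⧸ j)

theorem cm_quot_quot {R : Type u} [CommRing R] {c I : Ideal R} (hcI : c ≤ I) :
    LocCoh.IsCohenMacaulayRing ((R ⧸ c) ⧸ I.map (Ideal.Quotient.mk c)) ↔ LocCoh.IsCohenMacaulayRing (R ⧸ I) :=
  ⟨fun _ => CMCat.isCohenMacaulayRing_of_ringEquiv (DoubleQuot.quotQuotEquivQuotOfLE hcI),
    fun _ => CMCat.isCohenMacaulayRing_of_ringEquiv (DoubleQuot.quotQuotEquivQuotOfLE hcI).symm⟩

theorem cm_colon {k : Type u} [Field k] {R : Type u} [CommRing R] [Algebra k R] [Algebra.FiniteType k R]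
    (h : ℕ∞) {c I J : Ideal R} [LocCoh.IsGorensteinRing (R ⧸ c)] (hcI : c ≤ I) (hIJ : c.colon (I : Set R) = J)
    [LocCoh.IsCohenMacaulayRing (R ⧸ I)] (hA : ∀ M : Ideal (R ⧸ c), M.IsMaximal → M.height = h)
    (hB : ∀ M : Ideal (R ⧸ I), M.IsMaximal → M.height = h) : LocCoh.IsCohenMacaulayRing (R ⧸ J) := by
  let π := Ideal.Quotient.mk c
  have hcJ : c ≤ J := hIJ ▸ le_colon c I
  haveI : LocCoh.IsCohenMacaulayRing ((R ⧸ c) ⧸ I.map π) := (cm_quot_quot hcI).2 inferInstance
  haveI : Algebra.FiniteType k (R ⧸ c) := Algebra.FiniteType.of_surjective (Ideal.Quotient.mkₐ k c) Ideal.Quotient.mk_surjective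
  refine (cm_quot_quot hcJ).1 (cm_quot_ann (k := k) h hA (I.map π) (J.map π) (fun a => ?_) fun M hM => ?_)
  · obtain ⟨a, rfl⟩ := Ideal.Quotient.mk_surjective a
    rw [← Ideal.mem_comap, Ideal.comap_map_mk hcJ, ← hIJ, mem_colon_ideal]
    refine ⟨fun h x hx => ?_, fun h x hx => ?_⟩
    · obtain ⟨x, hx', rfl⟩ := (Ideal.mem_map_iff_of_surjective π Ideal.Quotient.mk_surjective).1 hx
      rw [← map_mul]
      exact Ideal.Quotient.eq_zero_iff_mem.2 (h x hx')
    · have h1 := h (π x) (Ideal.mem_map_of_mem _ hx)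
      rw [← map_mul] at h1
      exact Ideal.Quotient.eq_zero_iff_mem.1 h1
  · haveI := hM
    let e : ((R ⧸ c) ⧸ I.map π) ≃+* R ⧸ I := DoubleQuot.quotQuotEquivQuotOfLE hcI
    haveI : (M.comap e.symm.toRingHom).IsMaximal := Ideal.comap_isMaximal_of_surjective _ e.symm.surjective
    rw [← hB _ (inferInstance : (M.comap e.symm.toRingHom).IsMaximal)]
    exact (RingEquiv.height_comap e.symm M).symm

/-- One of two linked ideals is Cohen–Macaulay if the other is. -/
theorem cm_linked {K : Type u} [Field K] {n : ℕ} {c I J : Ideal (MvPolynomial (Fin (n + 1)) K)}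
    (hc : c.IsHomogeneous (GrSyz.stdGr K (Fin (n + 1)))) (hI : I.IsHomogeneous (GrSyz.stdGr K (Fin (n + 1))))
    [LocCoh.IsGorensteinRing (MvPolynomial (Fin (n + 1)) K ⧸ c)]
    (hIJ : c.colon (I : Set (MvPolynomial (Fin (n + 1)) K)) = J) (hcI : c ≤ I) (hIh : I ≠ ⊤ → I.height = c.height)
    [LocCoh.IsCohenMacaulayRing (MvPolynomial (Fin (n + 1)) K ⧸ I)] :
    LocCoh.IsCohenMacaulayRing (MvPolynomial (Fin (n + 1)) K ⧸ J) := by
  haveI : LocCoh.IsCohenMacaulayRing (MvPolynomial (Fin (n + 1)) K ⧸ c) := cm_of_gorenstein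
  by_cases hne : I = ⊤
  · have hJc : J = c := by
      rw [← hIJ, hne]
      refine le_antisymm (fun r hr => ?_) (le_colon c ⊤)
      have h1 := mem_colon_ideal.1 hr 1 Submodule.mem_top
      rwa [mul_one] at h1
    rw [hJc]; infer_instance
  have hcne : c ≠ ⊤ := fun h => hne (top_le_iff.1 (h ▸ hcI))
  let π := Ideal.Quotient.mk c
  have hcJ : c ≤ J := hIJ ▸ le_colon c I
  obtain ⟨a₀, ha₀⟩ := ENat.ne_top_iff_exists.1 (Ideal.height_ne_top (I := c) hcne)
  have hsub : ∀ x : ℕ∞, x + c.height = ((n + 1 : ℕ) : ℕ∞) → x = ((n + 1 - a₀ : ℕ) : ℕ∞) := fun x hx => by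
    rw [← ha₀] at hx
    cases x with
    | top => exact absurd hx (by rw [top_add]; exact (ENat.coe_ne_top _).symm)
    | coe x =>
      norm_cast at hx
      exact congrArg _ (by omega)
  refine cm_colon (k := K) _ hcI hIJ (fun M hM => (haveI := hM; hsub _ (height_maximal hc M))) fun M hM => ?_
  haveI := hM
  refine hsub _ ?_
  rw [← hIh hne]
  exact height_maximal hI M

end Groth.Agent.LiaisonLib
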