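import Groth.Agent.LiaisonLib.AlmostCI
import Groth.Agent.LiaisonLib.Double
import Groth.Agent.CMFlatLib.FlatLocal
import Groth.Agent.GorLib.ChangeRings
import Groth.Agent.S5165

/-!
# Geometric linkage: the intersection of two geometrically linked ideals is Gorenstein
-/

set_option autoImplicit false
set_option backward.isDefEq.respectTransparency false
universe u

open TensorProduct IsLocalRing CategoryTheory

noncomputable section

namespace Groth.Agent.LiaisonLib

/-- The quotient of a Cohen–Macaulay ring by a regular element is Cohen–Macaulay. -/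
theorem cm_quot_regular (R : Type u) [CommRing R] [hR : LocCoh.IsCohenMacaulayRing R] (f : R)
    (hf : IsSMulRegular R f) : LocCoh.IsCohenMacaulayRing (R ⧸ Ideal.span ({f} : Set R)) := by
  refine { isCohenMacaulayLocalRing_localization := fun P _ => ?_ }
  let p := P.comap (Ideal.Quotient.mk (Ideal.span ({f} : Set R)))
  haveI : P.LiesOver p := ⟨rfl⟩
  have hfp : f ∈ p := by
    show Ideal.Quotient.mk _ f ∈ P
    rw [Ideal.Quotient.eq_zero_iff_mem.mpr (Ideal.mem_span_singleton_self f)]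
    exact P.zero_mem
  have hfm : algebraMap R (Localization.AtPrime p) f ∈ maximalIdeal (Localization.AtPrime p) := by
    rw [← Localization.AtPrime.map_eq_maximalIdeal]; exact Ideal.mem_map_of_mem _ hfp
  haveI := hR.isCohenMacaulayLocalRing_localization p
  have hG := (CMFlatLib.cm_quot_iff (B := Localization.AtPrime p) hfm
    (hf.of_isLocalization (Localization.AtPrime p) p.primeCompl)).mp inferInstance
  have hmap : Ideal.span ({algebraMap R (Localization.AtPrime p) f} : Set _) =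
      (Ideal.span ({f} : Set R)).map (algebraMap R (Localization.AtPrime p)) := by
    rw [Ideal.map_span, Set.image_singleton]
  have hsub : Algebra.algebraMapSubmonoid (R ⧸ Ideal.span ({f} : Set R)) p.primeCompl = P.primeCompl :=
    Ideal.algebraMapSubmonoid_primeCompl_of_liesOver_surjective P p Ideal.Quotient.mk_surjective
  haveI : IsLocalization (Algebra.algebraMapSubmonoid (R ⧸ Ideal.span ({f} : Set R)) p.primeCompl)
      (Localization.AtPrime P) := by rw [hsub]; infer_instance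
  exact (CMFlatLib.cm_congr ((Ideal.quotEquivOfEq hmap).trans
    (IsLocalization.algEquiv (Algebra.algebraMapSubmonoid (R ⧸ Ideal.span ({f} : Set R)) p.primeCompl)
      _ (Localization.AtPrime P)).toRingEquiv)).1 hG

/-- Heights drop by one modulo a regular element. -/
theorem height_maximal_quot_regular {A : Type u} [CommRing A] [LocCoh.IsCohenMacaulayRing A] (f : A)
    (hf : IsSMulRegular A f) (h : ℕ∞) (hA : ∀ M : Ideal A, M.IsMaximal → M.height = h)
    (M : Ideal (A ⧸ Ideal.span {f})) [M.IsMaximal] : M.height + 1 = h := by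
  haveI := cm_quot_regular A f hf
  let π := Ideal.Quotient.mk (Ideal.span {f})
  haveI hM' : (M.comap π).IsMaximal := Ideal.comap_isMaximal_of_surjective π Ideal.Quotient.mk_surjective
  have hIM : Ideal.span {f} ≤ M.comap π := fun r hr => by
    rw [Ideal.mem_comap, Ideal.Quotient.eq_zero_iff_mem.2 hr]; exact zero_mem _
  obtain ⟨Q, hQ, hQM⟩ := Ideal.exists_minimalPrimes_le hIM
  haveI := hQ.1.1
  haveI hQ' : (Q.map π).IsPrime :=
    Ideal.map_isPrime_of_surjective Ideal.Quotient.mk_surjective (by rw [Ideal.mk_ker]; exact hQ.1.2)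
  have h2 := height_comap_add (Ideal.span {f}) (x := ⟨Q.map π, hQ'⟩) (y := ⟨M, inferInstance⟩)
    ((Ideal.map_mono hQM).trans Ideal.map_comap_le)
  have h0 : (Q.map π).height = 0 := by
    refine Ideal.height_eq_zero_iff.2 ⟨⟨hQ', bot_le⟩, fun q hq hle => ?_⟩
    haveI := hq.1
    have h3 : Ideal.span {f} ≤ q.comap π := fun r hr => by
      rw [Ideal.mem_comap, Ideal.Quotient.eq_zero_iff_mem.2 hr]; exact zero_mem _
    have h4 := hQ.2 ⟨inferInstance, h3⟩ ((Ideal.comap_mono hle).trans (Ideal.comap_map_mk hQ.1.2).le)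
    exact (Ideal.map_mono h4).trans Ideal.map_comap_le
  rw [h0, add_zero, hA (M.comap π) hM',
    show (PrimeSpectrum.mk (Q.map π) hQ').asIdeal.comap π = Q from Ideal.comap_map_mk hQ.1.2,
    height_eq_one_of_ass (fun a ha => hf.right_eq_zero_of_smul ha) (ass_of_minimal hQ)] at h2
  rw [add_comm]
  exact h2.symm

/-- Two short exact sequences with projective middle terms force projectivity. -/
theorem projective_of_loop {P : Type u} [CommRing P] [IsRegularRing P] {D E L N : Type u}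
    [AddCommGroup D] [Module P D] [Module.Finite P D] [AddCommGroup E] [Module P E] [Module.Projective P E]
    [AddCommGroup L] [Module P L] [AddCommGroup N] [Module P N] [Module.Projective P N]
    (ι : D →ₗ[P] E) (μ : E →ₗ[P] L) (hι : Function.Injective ι) (hμ : Function.Surjective μ) (h1 : Function.Exact ι μ)
    (κ : L →ₗ[P] N) (π : N →ₗ[P] D) (hκ : Function.Injective κ) (hπ : Function.Surjective π) (h2 : Function.Exact κ π) :
    Module.Projective P D ∧ Module.Projective P L := by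
  have hS1 := GorLib.shortExact_mkQ ι μ hι hμ h1
  have hS2 := GorLib.shortExact_mkQ κ π hκ hπ h2
  haveI hE : Projective (ModuleCat.of P E) := (IsProjective.iff_projective (R := P) E).mp inferInstance
  haveI hN : Projective (ModuleCat.of P N) := (IsProjective.iff_projective (R := P) N).mp inferInstance
  have hdrop : ∀ m : ℕ, HasProjectiveDimensionLT (ModuleCat.of P D) (m + 2) →
      HasProjectiveDimensionLT (ModuleCat.of P L) (m + 1) ∧ HasProjectiveDimensionLT (ModuleCat.of P D) (m + 1) := by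
    intro m hm
    have hL : HasProjectiveDimensionLT (ModuleCat.of P L) (m + 1) := (hS2.hasProjectiveDimensionLT_X₃_iff m hN).1 hm
    refine ⟨hL, hS1.hasProjectiveDimensionLT_X₁ (m + 1) ?_ (hasProjectiveDimensionLT_of_ge (ModuleCat.of P L) (m + 1) (m + 2) (by omega))⟩
    haveI : HasProjectiveDimensionLT (ModuleCat.of P E) 1 := projective_iff_hasProjectiveDimensionLT_one.1 hE
    exact hasProjectiveDimensionLT_of_ge (ModuleCat.of P E) 1 (m + 1) (by omega)
  obtain ⟨d, hd⟩ := S5165.result P D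
  have key : ∀ d : ℕ, HasProjectiveDimensionLT (ModuleCat.of P D) (d + 1) → HasProjectiveDimensionLT (ModuleCat.of P D) 1 := by
    intro d
    induction d with
    | zero => exact id
    | succ d ih => exact fun h => ih (hdrop d h).2
  have hD1 := key d hd
  haveI := hD1
  have hL1 := (hdrop 0 (hasProjectiveDimensionLT_of_ge (ModuleCat.of P D) 1 2 (by omega))).1
  exact ⟨(IsProjective.iff_projective (R := P) D).mpr (projective_iff_hasProjectiveDimensionLT_one.2 hD1),
    (IsProjective.iff_projective (R := P) L).mpr (projective_iff_hasProjectiveDimensionLT_one.2 hL1)⟩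

section Link

variable {A : Type u} [CommRing A] {i j : Ideal A} (δ : A)

/-- The quotient by a principal ideal, as a target. -/
abbrev qq (I : Ideal A) : A →+* A ⧸ (I ⊔ Ideal.span {δ}) := Ideal.Quotient.mk _

theorem mem_sup_of_mul (hij : i ⊓ j = ⊥) (hi : ∀ x, δ * x ∈ i → x ∈ i) (hj : ∀ x, δ * x ∈ j → x ∈ j) {a b : A}
    (ha : a ∈ i) (hb : b ∈ j) (hab : a + b = δ) {x : A} (hx : x * b ∈ Ideal.span {δ}) : x ∈ i ⊔ j := by
  obtain ⟨y, hy⟩ := Ideal.mem_span_singleton'.1 hx
  have h1 : x - y ∈ i := hi _ (by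
    rw [show δ * (x - y) = x * a by rw [mul_sub, mul_comm δ y, hy, ← hab]; ring]
    exact i.mul_mem_left x ha)
  have h2 : y ∈ j := hj _ (by rw [mul_comm, hy]; exact j.mul_mem_left x hb)
  rw [← sub_add_cancel x y]
  exact Submodule.add_mem_sup h1 h2

theorem mem_of_two (hij : i ⊓ j = ⊥) {a b : A} (ha : a ∈ i) (hb : b ∈ j) (hab : a + b = δ) {x : A}
    (hx1 : x ∈ i ⊔ Ideal.span {δ}) (hx2 : x ∈ j ⊔ Ideal.span {δ}) : x ∈ Ideal.span {δ} ⊔ Ideal.span {b} := by
  obtain ⟨p, hp, u, hu, hx⟩ := Submodule.mem_sup.1 hx1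
  obtain ⟨q, hq, v, hv, hx'⟩ := Submodule.mem_sup.1 hx2
  obtain ⟨y, rfl⟩ := Ideal.mem_span_singleton'.1 hu
  obtain ⟨z, rfl⟩ := Ideal.mem_span_singleton'.1 hv
  have hq' : q = (y - z) * b := by
    have h : q - (y - z) * b ∈ i ⊓ j := by
      refine ⟨?_, j.sub_mem hq (j.mul_mem_left _ hb)⟩
      rw [show q - (y - z) * b = p + (y - z) * a by
        have h3 : p + y * δ = q + z * δ := hx.trans hx'.symm
        rw [← hab] at h3
        linear_combination -h3]
      exact i.add_mem hp (i.mul_mem_left _ ha)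
    rw [hij, Ideal.mem_bot, sub_eq_zero] at h
    exact h
  rw [← hx', hq', add_comm]
  exact Submodule.add_mem_sup (Ideal.mem_span_singleton'.2 ⟨z, rfl⟩) (Ideal.mem_span_singleton'.2 ⟨_, rfl⟩)

end Link

/-- The loop of short exact sequences at work. -/
theorem gorenstein_quot_sup {k : Type u} [Field k] {A : Type u} [CommRing A] [Algebra k A]
    [Algebra.FiniteType k A] [LocCoh.IsGorensteinRing A] (h : ℕ∞) (hA : ∀ M : Ideal A, M.IsMaximal → M.height = h)
    (i j : Ideal A) (hij : i ⊓ j = ⊥) [LocCoh.IsCohenMacaulayRing (A ⧸ i)] [LocCoh.IsCohenMacaulayRing (A ⧸ j)]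
    (hi : ∀ M : Ideal (A ⧸ i), M.IsMaximal → M.height = h) (hj : ∀ M : Ideal (A ⧸ j), M.IsMaximal → M.height = h)
    (δ : A) (hδ : δ ∈ i ⊔ j) (hδA : IsSMulRegular A δ) (hδi : ∀ x, δ * x ∈ i → x ∈ i) (hδj : ∀ x, δ * x ∈ j → x ∈ j) :
    LocCoh.IsGorensteinRing (A ⧸ (i ⊔ j)) := by
  classical
  haveI : IsNoetherianRing A := Algebra.FiniteType.isNoetherianRing k A
  haveI : LocCoh.IsCohenMacaulayRing A := cm_of_gorenstein
  obtain ⟨a, ha, b, hb, hab⟩ := Submodule.mem_sup.1 hδ
  let d : Ideal A := Ideal.span {δ}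
  rcases subsingleton_or_nontrivial (A ⧸ d) with hs | hn
  · have htop : i ⊔ j = ⊤ := top_le_iff.1 ((Ideal.Quotient.subsingleton_iff.1 hs).ge.trans
      ((Ideal.span_singleton_le_iff_mem _).2 hδ))
    haveI : Subsingleton (A ⧸ (i ⊔ j)) := Ideal.Quotient.subsingleton_iff.2 htop
    exact { isGorensteinLocalRing_localization := fun p hp => absurd (Subsingleton.elim p ⊤) hp.ne_top }
  haveI : LocCoh.IsGorensteinRing (A ⧸ d) := GorLib.gorensteinRing_quot A δ hδA
  haveI : LocCoh.IsCohenMacaulayRing (A ⧸ d) := cm_of_gorenstein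
  haveI : Algebra.FiniteType k (A ⧸ d) := Algebra.FiniteType.of_surjective (Ideal.Quotient.mkₐ k d) Ideal.Quotient.mk_surjective
  obtain ⟨s, g, hinj, hfin⟩ := exists_finite_inj_algHom_of_fg k (A ⧸ d)
  letI : Algebra (MvPolynomial (Fin s) k) (A ⧸ d) := g.toRingHom.toAlgebra
  haveI : Module.Finite (MvPolynomial (Fin s) k) (A ⧸ d) := hfin
  obtain ⟨q, hqmax, hqh⟩ := exists_maximal_height (A := A ⧸ d) hinj
  have hs1 : h = (s : ℕ∞) + 1 := by
    rw [← hqh]
    haveI := hqmax
    exact (height_maximal_quot_regular δ hδA h hA q).symm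
  have hcancel : ∀ x : ℕ∞, x + 1 = h → x = s := fun x hx =>
    (ENat.addLECancellable_of_ne_top ENat.one_ne_top).inj_left.1 (hx.trans hs1)
  let P := MvPolynomial (Fin s) k
  haveI : Module.Projective P (A ⧸ d) := projective_of_heights _ fun M hM =>
    (haveI := hM; hcancel _ (height_maximal_quot_regular δ hδA h hA M))
  haveI : Module.Invertible (A ⧸ d) (Disc.Omega P (A ⧸ d)) := invertible_omega
  have hquot : ∀ (I : Ideal A) [LocCoh.IsCohenMacaulayRing (A ⧸ I)],
      (∀ M : Ideal (A ⧸ I), M.IsMaximal → M.height = h) → (∀ x, δ * x ∈ I → x ∈ I) →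
      Module.Projective P ((A ⧸ d) ⧸ I.map (Ideal.Quotient.mk d)) := by
    intro I _ hI hreg
    have hregq : IsSMulRegular (A ⧸ I) (Ideal.Quotient.mk I δ) := isSMulRegular_iff_right_eq_zero_of_smul.2 fun x hx => by
      obtain ⟨x, rfl⟩ := Ideal.Quotient.mk_surjective x
      rw [smul_eq_mul, ← map_mul, Ideal.Quotient.eq_zero_iff_mem] at hx
      exact Ideal.Quotient.eq_zero_iff_mem.2 (hreg x hx)
    have hmap : (d.map (Ideal.Quotient.mk I)) = Ideal.span {Ideal.Quotient.mk I δ} := by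
      simp only [d, Ideal.map_span, Set.image_singleton]
    let e : ((A ⧸ I) ⧸ Ideal.span {Ideal.Quotient.mk I δ}) ≃+* ((A ⧸ d) ⧸ I.map (Ideal.Quotient.mk d)) :=
      (Ideal.quotEquivOfEq hmap.symm).trans (DoubleQuot.quotQuotEquivComm I d)
    haveI : LocCoh.IsCohenMacaulayRing ((A ⧸ I) ⧸ Ideal.span {Ideal.Quotient.mk I δ}) := cm_quot_regular _ _ hregq
    haveI : LocCoh.IsCohenMacaulayRing ((A ⧸ d) ⧸ I.map (Ideal.Quotient.mk d)) := CMCat.isCohenMacaulayRing_of_ringEquiv e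
    refine projective_of_heights _ fun M hM => ?_
    haveI := hM
    haveI : (M.comap e.toRingHom).IsMaximal := Ideal.comap_isMaximal_of_surjective _ e.surjective
    rw [← show (M.comap e.toRingHom).height = M.height from RingEquiv.height_comap e M]
    exact hcancel _ (height_maximal_quot_regular _ hregq h hI _)
  haveI := hquot i hi hδi
  haveI := hquot j hj hδj
  let π := Ideal.Quotient.mk d
  let I' := i.map π
  let J' := j.map π
  have hsup : ∀ I : Ideal A, (I.map π).comap π = I ⊔ d := fun I => by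
    rw [Ideal.comap_map_of_surjective _ Ideal.Quotient.mk_surjective, ← RingHom.ker_eq_comap_bot, Ideal.mk_ker]
  have hdij : i ⊔ j ⊔ d = i ⊔ j := sup_eq_left.2 ((Ideal.span_singleton_le_iff_mem _).2 hδ)
  let D := (A ⧸ d) ⧸ (I' ⊔ J')
  have hsup2 : ∀ x, π x ∈ I' ⊔ J' ↔ x ∈ i ⊔ j := fun x => by
    rw [← Ideal.map_sup, ← Ideal.mem_comap, hsup, hdij]
  let ι : D →ₗ[P] A ⧸ d := ((I' ⊔ J').restrictScalars P).liftQ (LinearMap.mulRight P (π b)) fun z hz => by
    obtain ⟨x, rfl⟩ := Ideal.Quotient.mk_surjective z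
    obtain ⟨u, hu, v, hv, rfl⟩ := Submodule.mem_sup.1 ((hsup2 x).1 hz)
    show π (u + v) * π b = 0
    rw [← map_mul, Ideal.Quotient.eq_zero_iff_mem]
    have hub : u * b = 0 := (Ideal.mem_bot).1 (hij ▸ ⟨i.mul_mem_right b hu, j.mul_mem_left u hb⟩)
    have hva : v * a = 0 := (Ideal.mem_bot).1 (hij ▸ ⟨i.mul_mem_left v ha, j.mul_mem_right a hv⟩)
    rw [add_mul, hub, zero_add, show v * b = v * δ by rw [← hab, mul_add, hva, zero_add]]
    exact Ideal.mem_span_singleton'.2 ⟨v, rfl⟩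
  have hιinj : Function.Injective ι := by
    rw [injective_iff_map_eq_zero]
    intro z hz
    obtain ⟨z', rfl⟩ := Ideal.Quotient.mk_surjective z
    obtain ⟨x, rfl⟩ := Ideal.Quotient.mk_surjective z'
    refine Ideal.Quotient.eq_zero_iff_mem.2 ((hsup2 x).2 (mem_sup_of_mul δ hij hδi hδj ha hb hab ?_))
    change π x * π b = 0 at hz
    rwa [← map_mul, Ideal.Quotient.eq_zero_iff_mem] at hz
  let μ : (A ⧸ d) →ₗ[P] (A ⧸ d) ⧸ Ideal.span {π b} := (Ideal.Quotient.mkₐ P _).toLinearMap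
  have hexact1 : Function.Exact ι μ := fun z => by
    refine Ideal.Quotient.eq_zero_iff_mem.trans (Ideal.mem_span_singleton'.trans ?_)
    refine ⟨fun ⟨x, hx⟩ => ⟨Ideal.Quotient.mk _ x, hx⟩, ?_⟩
    rintro ⟨y, rfl⟩
    obtain ⟨x, rfl⟩ := Ideal.Quotient.mk_surjective y
    exact ⟨x, rfl⟩
  let κ : ((A ⧸ d) ⧸ Ideal.span {π b}) →ₗ[P] ((A ⧸ d) ⧸ I') × ((A ⧸ d) ⧸ J') :=
    ((Ideal.span {π b}).restrictScalars P).liftQ
      (LinearMap.prod (LinearMap.lsmul P ((A ⧸ d) ⧸ I') 1 ∘ₗ (Ideal.Quotient.mkₐ P I').toLinearMap)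
        (Ideal.Quotient.mkₐ P J').toLinearMap) fun z hz => by
      obtain ⟨w, rfl⟩ := Ideal.mem_span_singleton'.1 hz
      refine Prod.ext ?_ ?_
      · show (1 : P) • Ideal.Quotient.mk I' (w * π b) = 0
        rw [one_smul, Ideal.Quotient.eq_zero_iff_mem]
        refine Ideal.mul_mem_left _ _ ?_
        rw [← Ideal.mem_comap, hsup, show b = -a + δ by rw [← hab]; ring]
        exact Submodule.add_mem_sup (i.neg_mem ha) (Ideal.mem_span_singleton_self δ)
      · exact Ideal.Quotient.eq_zero_iff_mem.2 (Ideal.mul_mem_left _ _ (Ideal.mem_map_of_mem π hb))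
  have hκinj : Function.Injective κ := by
    rw [injective_iff_map_eq_zero]
    intro z hz
    obtain ⟨z', rfl⟩ := Ideal.Quotient.mk_surjective z
    obtain ⟨x, rfl⟩ := Ideal.Quotient.mk_surjective z'
    have h1 : (1 : P) • Ideal.Quotient.mk I' (π x) = 0 := congrArg Prod.fst hz
    have h2 : Ideal.Quotient.mk J' (π x) = 0 := congrArg Prod.snd hz
    rw [one_smul, Ideal.Quotient.eq_zero_iff_mem, ← Ideal.mem_comap, hsup] at h1
    rw [Ideal.Quotient.eq_zero_iff_mem, ← Ideal.mem_comap, hsup] at h2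
    refine Ideal.Quotient.eq_zero_iff_mem.2 ?_
    have h3 := Ideal.mem_map_of_mem π (mem_of_two δ hij ha hb hab h1 h2)
    rwa [Ideal.map_sup, show (Ideal.span {δ}).map π = ⊥ from Ideal.map_quotient_self _, bot_sup_eq,
      Ideal.map_span, Set.image_singleton] at h3
  let fI : ((A ⧸ d) ⧸ I') →ₗ[P] D := (Ideal.Quotient.factorₐ P (le_sup_left : I' ≤ I' ⊔ J')).toLinearMap
  let fJ : ((A ⧸ d) ⧸ J') →ₗ[P] D := (Ideal.Quotient.factorₐ P (le_sup_right : J' ≤ I' ⊔ J')).toLinearMap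
  let diff : ((A ⧸ d) ⧸ I') × ((A ⧸ d) ⧸ J') →ₗ[P] D := fI ∘ₗ LinearMap.fst P _ _ - fJ ∘ₗ LinearMap.snd P _ _
  have hdiff : Function.Surjective diff := fun z => by
    obtain ⟨x, rfl⟩ := Ideal.Quotient.mk_surjective z
    refine ⟨(Ideal.Quotient.mk I' x, 0), ?_⟩
    show fI (Ideal.Quotient.mk I' x) - fJ 0 = _
    rw [map_zero, sub_zero]
    rfl
  have hexact2 : Function.Exact κ diff := by
    intro z
    obtain ⟨u, v⟩ := z
    obtain ⟨u, rfl⟩ := Ideal.Quotient.mk_surjective u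
    obtain ⟨v, rfl⟩ := Ideal.Quotient.mk_surjective v
    refine Iff.trans (show diff (Ideal.Quotient.mk I' u, Ideal.Quotient.mk J' v) = 0 ↔ u - v ∈ I' ⊔ J' from
      (sub_eq_zero (a := Ideal.Quotient.mk (I' ⊔ J') u) (b := Ideal.Quotient.mk (I' ⊔ J') v)).trans Ideal.Quotient.eq) ⟨fun h => ?_, ?_⟩
    · obtain ⟨p, hp, q, hq, hpq⟩ := Submodule.mem_sup.1 h
      refine ⟨Ideal.Quotient.mk _ (v + q), Prod.ext ?_ (Ideal.Quotient.eq.2 (by rwa [add_sub_cancel_left]))⟩
      show (1 : P) • Ideal.Quotient.mk I' (v + q) = _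
      rw [one_smul, Ideal.Quotient.eq, show v + q - u = -p by linear_combination hpq]
      exact I'.neg_mem hp
    · rintro ⟨y, hy⟩
      obtain ⟨x, rfl⟩ := Ideal.Quotient.mk_surjective y
      have h1 : (1 : P) • Ideal.Quotient.mk I' x = Ideal.Quotient.mk I' u := congrArg Prod.fst hy
      have h2 : Ideal.Quotient.mk J' x = Ideal.Quotient.mk J' v := congrArg Prod.snd hy
      rw [one_smul, Ideal.Quotient.eq] at h1
      rw [Ideal.Quotient.eq] at h2
      rw [show u - v = -(x - u) + (x - v) by ring]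
      exact Submodule.add_mem_sup (I'.neg_mem h1) h2
  haveI : Module.Projective P (((A ⧸ d) ⧸ I') × ((A ⧸ d) ⧸ J')) := inferInstance
  obtain ⟨hPD, hPL⟩ := projective_of_loop ι μ hιinj Ideal.Quotient.mk_surjective hexact1 κ diff hκinj hdiff hexact2
  haveI := hPD
  haveI := hPL
  obtain ⟨σ, hσ⟩ := Module.projective_lifting_property μ LinearMap.id Ideal.Quotient.mk_surjective
  let ret : (A ⧸ d) →ₗ[P] LinearMap.range ι :=
    (LinearMap.id - σ ∘ₗ μ).codRestrict _ fun x => (hexact1 _).1 (by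
      show μ (x - σ (μ x)) = 0
      rw [map_sub]
      exact sub_eq_zero.2 (LinearMap.congr_fun hσ (μ x)).symm)
  have hD : LocCoh.IsGorensteinRing D :=
    gorensteinRing_of_split (P := P) (A := A ⧸ d) (Ideal.Quotient.mk _) ι (fun x z => by
      obtain ⟨w, rfl⟩ := Ideal.Quotient.mk_surjective z
      rw [← map_mul]
      exact mul_assoc x w (π b))
      ((LinearEquiv.ofInjective ι hιinj).symm.toLinearMap ∘ₗ ret) fun x => by
        rw [LinearMap.comp_apply]
        refine (LinearEquiv.ofInjective ι hιinj).injective ?_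
        rw [LinearEquiv.coe_coe, LinearEquiv.apply_symm_apply]
        refine Subtype.ext ?_
        show ι x - σ (μ (ι x)) = _
        rw [(hexact1 _).2 ⟨x, rfl⟩, map_zero, sub_zero]
        rfl
  exact GorLib.gorensteinRing_of_ringEquiv ((Ideal.quotEquivOfEq (Ideal.map_sup π i j).symm).trans
    (DoubleQuot.quotQuotEquivQuotOfLE ((Ideal.span_singleton_le_iff_mem _).2 hδ))) hD

/-- `i + j` modulo a regular element is embedded; associated primes come along. -/
theorem ass_sup_subset {A : Type u} [CommRing A] {i j c : Ideal A} (hij : i ⊓ j = c) (δ : A) (hδ : δ ∈ i ⊔ j)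
    (hi : ∀ x, δ * x ∈ i → x ∈ i) (hj : ∀ x, δ * x ∈ j → x ∈ j) :
    associatedPrimes A (A ⧸ (i ⊔ j)) ⊆ associatedPrimes A (A ⧸ (c ⊔ Ideal.span {δ})) := by
  obtain ⟨a, ha, b, hb, hab⟩ := Submodule.mem_sup.1 hδ
  let f : (A ⧸ (i ⊔ j)) →ₗ[A] A ⧸ (c ⊔ Ideal.span {δ}) :=
    Submodule.mapQ (i ⊔ j) (c ⊔ Ideal.span {δ}) (LinearMap.mulRight A b) fun x hx => by
      obtain ⟨u, hu, v, hv, rfl⟩ := Submodule.mem_sup.1 hx
      show (u + v) * b ∈ c ⊔ Ideal.span {δ}
      rw [show (u + v) * b = (u * b - v * a) + v * δ by rw [← hab]; ring]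
      exact Submodule.add_mem_sup (hij ▸ ⟨i.sub_mem (i.mul_mem_right b hu) (i.mul_mem_left v ha),
        j.sub_mem (j.mul_mem_left u hb) (j.mul_mem_right a hv)⟩) (Ideal.mem_span_singleton'.2 ⟨v, rfl⟩)
  refine associatedPrimes.subset_of_injective (f := f) ?_
  rw [injective_iff_map_eq_zero]
  intro z hz
  obtain ⟨x, rfl⟩ := Submodule.Quotient.mk_surjective _ z
  rw [Submodule.mapQ_apply, Submodule.Quotient.mk_eq_zero, LinearMap.mulRight_apply] at hz
  rw [Submodule.Quotient.mk_eq_zero]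
  obtain ⟨w, hw, v, hv, hwv⟩ := Submodule.mem_sup.1 hz
  obtain ⟨y, rfl⟩ := Ideal.mem_span_singleton'.1 hv
  obtain ⟨hwi, hwj⟩ : w ∈ i ∧ w ∈ j := le_of_eq hij.symm hw
  have h1 : x - y ∈ i := hi _ (by
    rw [show δ * (x - y) = x * a + w by
      have h3 : w + y * δ = x * b := hwv
      rw [← hab] at h3 ⊢
      linear_combination -h3]
    exact i.add_mem (i.mul_mem_left x ha) hwi)
  have h2 : y ∈ j := hj _ (by
    rw [show δ * y = x * b - w by linear_combination hwv]
    exact j.sub_mem (j.mul_mem_left x hb) hwj)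
  rw [← sub_add_cancel x y]
  exact Submodule.add_mem_sup h1 h2

theorem gorenstein_sup_of_inf {k : Type u} [Field k] {R : Type u} [CommRing R] [Algebra k R] [Algebra.FiniteType k R]
    (h : ℕ∞) (I₁ I₂ : Ideal R) [LocCoh.IsGorensteinRing (R ⧸ (I₁ ⊓ I₂))] [LocCoh.IsCohenMacaulayRing (R ⧸ I₁)]
    [LocCoh.IsCohenMacaulayRing (R ⧸ I₂)] (hA : ∀ M : Ideal (R ⧸ (I₁ ⊓ I₂)), M.IsMaximal → M.height = h)
    (hi : ∀ M : Ideal (R ⧸ I₁), M.IsMaximal → M.height = h) (hj : ∀ M : Ideal (R ⧸ I₂), M.IsMaximal → M.height = h)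
    (δ : R) (hδ : δ ∈ I₁ ⊔ I₂) (h1 : ∀ x, δ * x ∈ I₁ → x ∈ I₁) (h2 : ∀ x, δ * x ∈ I₂ → x ∈ I₂) :
    LocCoh.IsGorensteinRing (R ⧸ (I₁ ⊔ I₂)) := by
  let c := I₁ ⊓ I₂
  let π := Ideal.Quotient.mk c
  haveI : Algebra.FiniteType k (R ⧸ c) := Algebra.FiniteType.of_surjective (Ideal.Quotient.mkₐ k c) Ideal.Quotient.mk_surjective
  have hmem : ∀ (I : Ideal R), c ≤ I → ∀ x, π x ∈ I.map π ↔ x ∈ I := fun I hI x => by
    rw [← Ideal.mem_comap, Ideal.comap_map_mk hI]
  haveI : LocCoh.IsCohenMacaulayRing ((R ⧸ c) ⧸ I₁.map π) := (cm_quot_quot inf_le_left).2 inferInstance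
  haveI : LocCoh.IsCohenMacaulayRing ((R ⧸ c) ⧸ I₂.map π) := (cm_quot_quot inf_le_right).2 inferInstance
  have hbot : I₁.map π ⊓ I₂.map π = ⊥ := by
    rw [eq_bot_iff]
    intro z hz
    obtain ⟨x, rfl⟩ := Ideal.Quotient.mk_surjective z
    exact Ideal.Quotient.eq_zero_iff_mem.2 ⟨(hmem I₁ inf_le_left x).1 hz.1, (hmem I₂ inf_le_right x).1 hz.2⟩
  have hreg : ∀ (I : Ideal R), c ≤ I → (∀ x, δ * x ∈ I → x ∈ I) → ∀ x, π δ * x ∈ I.map π → x ∈ I.map π := by
    intro I hI hI' x hx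
    obtain ⟨x, rfl⟩ := Ideal.Quotient.mk_surjective x
    rw [← map_mul, hmem I hI] at hx
    exact (hmem I hI x).2 (hI' x hx)
  have htr : ∀ (I : Ideal R) (hI : c ≤ I), (∀ M : Ideal (R ⧸ I), M.IsMaximal → M.height = h) →
      ∀ M : Ideal ((R ⧸ c) ⧸ I.map π), M.IsMaximal → M.height = h := by
    intro I hI hh M hM
    haveI := hM
    let e : ((R ⧸ c) ⧸ I.map π) ≃+* R ⧸ I := DoubleQuot.quotQuotEquivQuotOfLE hI
    haveI : (M.comap e.symm.toRingHom).IsMaximal := Ideal.comap_isMaximal_of_surjective _ e.symm.surjective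
    rw [← hh _ (inferInstance : (M.comap e.symm.toRingHom).IsMaximal)]
    exact (RingEquiv.height_comap e.symm M).symm
  have hsum := gorenstein_quot_sup (k := k) h hA (I₁.map π) (I₂.map π) hbot (htr I₁ inf_le_left hi)
    (htr I₂ inf_le_right hj) (π δ) (by rw [← Ideal.map_sup]; exact Ideal.mem_map_of_mem _ hδ)
    (isSMulRegular_iff_right_eq_zero_of_smul.2 fun x hx => by
      obtain ⟨x, rfl⟩ := Ideal.Quotient.mk_surjective x
      rw [smul_eq_mul, ← map_mul, Ideal.Quotient.eq_zero_iff_mem] at hx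
      exact Ideal.Quotient.eq_zero_iff_mem.2 ⟨h1 x hx.1, h2 x hx.2⟩)
    (hreg I₁ inf_le_left h1) (hreg I₂ inf_le_right h2)
  refine gorenstein_quot_quot (inf_le_left.trans le_sup_left : c ≤ I₁ ⊔ I₂) ?_
  exact GorLib.gorensteinRing_of_ringEquiv (Ideal.quotEquivOfEq (Ideal.map_sup π I₁ I₂).symm) hsum

end Groth.Agent.LiaisonLib
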